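import Cfsg.Agent.H57.Order.Link
import Cfsg.Agent.H3.SDOrder.GLFuns

/-!
# Products of two involutions in the transfer
-/

set_option autoImplicit false
set_option linter.style.haveILetI false
set_option linter.unusedSectionVars false

namespace Cfsg.Agent.H57.Order

open Cfsg Cfsg.Agent.CharBasic Subgroup
open Cfsg.Agent.H3.SDOrder (involInd)
open scoped ComplexConjugate

universe u v w

section invol

variable {X : Type u} {Y : Type v} [Group X] [Fintype X] [Group Y] [Fintype Y] (f : X →* Y)

/-- The number of involutions over an element. -/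
noncomputable def nover (y : Y) : ℕ := Nat.card {x : X // orderOf x = 2 ∧ f x = y}

theorem map_invol (hodd : Odd (Nat.card f.ker)) {x : X} (hx : orderOf x = 2) : orderOf (f x) = 2 := by
  rcases (Nat.dvd_prime Nat.prime_two).1 ((orderOf_map_dvd f x).trans (dvd_of_eq hx)) with h | h
  · have := Subgroup.orderOf_dvd_natCard f.ker (MonoidHom.mem_ker.2 (orderOf_eq_one_iff.1 h))
    rw [hx] at this
    exact absurd (even_iff_two_dvd.2 this) (Nat.not_even_iff_odd.2 hodd)
  · exact h

theorem sum_invol (hodd : Odd (Nat.card f.ker)) (Φ : Y → ℂ) :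
    ∑ a : X, involInd a * Φ (f a) = ∑ y : Y, involInd y * (nover f y : ℂ) * Φ y := by
  classical
  rw [← Finset.sum_fiberwise Finset.univ f]
  refine Finset.sum_congr rfl fun y _ => ?_
  rw [Finset.sum_congr rfl fun x (hx : x ∈ _) =>
      show involInd x * Φ (f x) = involInd x * Φ y by rw [(Finset.mem_filter.1 hx).2],
    ← Finset.sum_mul]
  congr 1
  simp only [involInd]
  rw [Finset.sum_boole, nover, Nat.card_eq_fintype_card, Fintype.card_subtype]
  split_ifs with hy
  · rw [one_mul, Finset.filter_filter]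
    congr 2
    ext x
    simp [and_comm]
  · rw [zero_mul, Nat.cast_eq_zero, Finset.card_eq_zero]
    refine Finset.filter_eq_empty_iff.2 fun x hx h => hy ?_
    rw [← (Finset.mem_filter.1 hx).2]
    exact map_invol f hodd h

theorem sum_invol_pairs (hodd : Odd (Nat.card f.ker)) (Φ : Y → ℂ) :
    ∑ a : X, ∑ b : X, involInd a * involInd b * Φ (f a * f b) =
      ∑ y : Y, ∑ z : Y, involInd y * involInd z * ((nover f y : ℂ) * nover f z) * Φ (y * z) := by
  simp only [mul_assoc, ← Finset.mul_sum]
  rw [sum_invol f hodd fun y => ∑ b : X, involInd b * Φ (y * f b)]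
  refine Finset.sum_congr rfl fun y _ => ?_
  rw [sum_invol f hodd fun z => Φ (y * z)]
  simp only [Finset.mul_sum]
  exact Finset.sum_congr rfl fun z _ => by ring

/-- A central involution is the only one over its image. -/
theorem eq_of_central (hodd : Odd (Nat.card f.ker)) {t x : X} (ht : t * t = 1) (htc : t ∈ center X)
    (hx : x * x = 1) (h : f x = f t) : x = t := by
  have hk : x⁻¹ * t ∈ f.ker := by rw [MonoidHom.mem_ker, map_mul, map_inv, h, inv_mul_cancel]
  have hx' : x⁻¹ = x := inv_eq_of_mul_eq_one_right hx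
  have h2 : (x⁻¹ * t) ^ 2 = 1 := by
    rw [(show Commute x⁻¹ t from Subgroup.mem_center_iff.1 htc x⁻¹).mul_pow, pow_two, pow_two, ht,
      hx', hx, mul_one]
  rcases (Nat.dvd_prime Nat.prime_two).1 (orderOf_dvd_of_pow_eq_one h2) with h1 | h1
  · rw [orderOf_eq_one_iff, inv_mul_eq_one] at h1; exact h1
  · have := Subgroup.orderOf_dvd_natCard f.ker hk
    rw [h1] at this
    exact absurd (even_iff_two_dvd.2 this) (Nat.not_even_iff_odd.2 hodd)

/-- Two involutions with the same image are conjugate. -/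
theorem isConj_of_map_eq (hodd : Odd (Nat.card f.ker)) {a b : X} (ha : a * a = 1) (hb : b * b = 1)
    (h : f a = f b) : IsConj a b := by
  set d := a * b with hd
  have hk : d ∈ f.ker := by rw [MonoidHom.mem_ker, map_mul, h, ← map_mul, hb, map_one]
  obtain ⟨m, hm⟩ := hodd
  have hpow : d ^ (2 * m + 1) = 1 := by
    rw [← hm]; exact congrArg Subtype.val (pow_card_eq_one' (x := (⟨d, hk⟩ : f.ker)))
  have hinv : a * d * a⁻¹ = d⁻¹ := by
    rw [inv_eq_of_mul_eq_one_right ha, hd, mul_inv_rev, inv_eq_of_mul_eq_one_right ha,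
      inv_eq_of_mul_eq_one_right hb]
    rw [← mul_assoc a a b, ha, one_mul]
  refine isConj_iff.2 ⟨d ^ m, ?_⟩
  have h1 : a * (d ^ m)⁻¹ = d ^ m * a := by
    have e1 : a * d ^ m * a⁻¹ = (d ^ m)⁻¹ := by rw [← conj_pow, hinv, inv_pow]
    calc a * (d ^ m)⁻¹ = a * (a * d ^ m * a⁻¹) := by rw [e1]
      _ = d ^ m * a := by
        rw [← mul_assoc, ← mul_assoc, ha, one_mul, inv_eq_of_mul_eq_one_right ha]
  calc d ^ m * a * (d ^ m)⁻¹ = d ^ m * (d ^ m * a) := by rw [mul_assoc, h1]
    _ = (d ^ (2 * m + 1)) * d⁻¹ * a := by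
      rw [pow_succ, mul_inv_cancel_right, two_mul, pow_add, mul_assoc]
    _ = b := by
      rw [hpow, one_mul, hd, mul_inv_rev, mul_assoc, inv_mul_cancel, mul_one,
        inv_eq_of_mul_eq_one_right hb]

theorem nover_conj (y g : Y) (hf : Function.Surjective f) : nover f (g * y * g⁻¹) = nover f y := by
  obtain ⟨c, rfl⟩ := hf g
  exact Nat.card_congr
    { toFun := fun x => ⟨c⁻¹ * x.1 * c, by
        rw [show c⁻¹ * x.1 * c = MulAut.conj c⁻¹ x.1 by simp, MulEquiv.orderOf_eq]
        exact x.2.1, by
        simp only [map_mul, map_inv, x.2.2]; group⟩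
      invFun := fun x => ⟨c * x.1 * c⁻¹, by
        rw [show c * x.1 * c⁻¹ = MulAut.conj c x.1 by simp, MulEquiv.orderOf_eq]
        exact x.2.1, by
        simp only [map_mul, map_inv, x.2.2]⟩
      left_inv := fun x => Subtype.ext (by simp [mul_assoc])
      right_inv := fun x => Subtype.ext (by simp [mul_assoc]) }

end invol

variable {C : Type u} [Group C] [Fintype C]

/-- The pair count against a function. -/
theorem sum_conj_pairs (F : C → ℂ) :
    ∑ x : C, conj (F x) *
        (Nat.card {a : C // orderOf a = 2 ∧ orderOf (a⁻¹ * x) = 2} : ℂ) =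
      conj (∑ a : C, ∑ b : C, involInd a * involInd b * F (a * b)) := by
  classical
  have hconj : ∀ x : C, conj (involInd x) = (involInd x : ℂ) := fun x => by
    unfold involInd; split_ifs <;> simp
  have hp : ∀ x : C, (Nat.card {a : C // orderOf a = 2 ∧ orderOf (a⁻¹ * x) = 2} : ℂ) =
      ∑ a : C, involInd a * involInd (a⁻¹ * x) := by
    intro x
    rw [Nat.card_eq_fintype_card, Fintype.card_subtype, Finset.natCast_card_filter]
    refine Finset.sum_congr rfl fun a _ => ?_
    unfold involInd
    split_ifs <;> simp_all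
  simp only [hp, Finset.mul_sum, map_sum, map_mul, hconj]
  rw [Finset.sum_comm]
  refine Finset.sum_congr rfl fun a _ => ?_
  refine (Fintype.sum_equiv (Equiv.mulLeft a) _ _ fun b => ?_).symm
  simp only [Equiv.coe_mulLeft, inv_mul_cancel_left]
  ring

variable {Y : Type v} [Group Y] [Fintype Y] {H : Type w} [Group H]
  [Fintype H] {M : Ideal AlgInt} {C0 : Subgroup C} {ρ : C0 →* Y} {π : H →* Y} {t : C} {e : H}
  (S : Setup M C0 ρ π t e)
include S

theorem Setup.invol_mem {a : C} (ha : a * a = 1) : a ∈ C0 := by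
  haveI := S.normal
  rw [← QuotientGroup.eq_one_iff, ← orderOf_eq_one_iff]
  refine Nat.eq_one_of_dvd_coprimes
    ((Nat.prime_two.coprime_iff_not_dvd).2 S.index) ?_ ?_
  · rw [orderOf_dvd_iff_pow_eq_one, ← QuotientGroup.mk_pow, pow_two, ha]; rfl
  · rw [Subgroup.index_eq_card]; exact orderOf_dvd_natCard _

theorem Setup.nover_π {y : Y} (hc : π.ker ≤ center H) (hy : orderOf y = 2) : nover π y = 1 := by
  obtain ⟨g, rfl⟩ := S.π_surj y
  obtain ⟨m, hm⟩ := S.π_odd
  have hg2 : g ^ 2 ∈ π.ker := by
    rw [MonoidHom.mem_ker, map_pow, ← hy, pow_orderOf_eq_one]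
  have hpow : (g ^ 2) ^ (2 * m + 1) = 1 := by
    rw [← hm]; exact congrArg Subtype.val (pow_card_eq_one' (x := (⟨_, hg2⟩ : π.ker)))
  have himg : π (g ^ (2 * m + 1)) = π g := by
    rw [map_pow, pow_succ, pow_mul, show π g ^ 2 = 1 by rw [← hy, pow_orderOf_eq_one], one_pow, one_mul]
  have hord : orderOf (g ^ (2 * m + 1)) = 2 := by
    refine orderOf_eq_prime (by rw [← pow_mul, mul_comm, pow_mul, hpow]) fun h => ?_
    rw [h, map_one] at himg
    rw [← himg, orderOf_one] at hy
    exact absurd hy (by norm_num)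
  refine Nat.card_eq_one_iff_exists.2 ⟨⟨g ^ (2 * m + 1), hord, himg⟩, ?_⟩
  rintro ⟨x, hx, hxy⟩
  refine Subtype.ext ?_
  have hk : x⁻¹ * g ^ (2 * m + 1) ∈ π.ker := by
    rw [MonoidHom.mem_ker, map_mul, map_inv, hxy, himg, inv_mul_cancel]
  have hsq : ∀ {z : H}, orderOf z = 2 → z ^ 2 = 1 := fun h => h ▸ pow_orderOf_eq_one _
  have hxk : (x⁻¹ * g ^ (2 * m + 1)) ^ 2 = 1 := by
    have e1 : g ^ (2 * m + 1) = x * (x⁻¹ * g ^ (2 * m + 1)) := (mul_inv_cancel_left _ _).symm
    have e2 := hsq hord
    have hcom : Commute x (x⁻¹ * g ^ (2 * m + 1)) := Subgroup.mem_center_iff.1 (hc hk) x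
    rwa [e1, hcom.mul_pow, hsq hx,
      one_mul] at e2
  rcases (Nat.dvd_prime Nat.prime_two).1 (orderOf_dvd_of_pow_eq_one hxk) with h | h
  · rw [orderOf_eq_one_iff, inv_mul_eq_one] at h; exact h
  · have := Subgroup.orderOf_dvd_natCard π.ker hk
    rw [h] at this
    exact absurd (even_iff_two_dvd.2 this) (Nat.not_even_iff_odd.2 S.π_odd)

/-- The sums nover products of two involutions scale by the square of the fibre size. -/
theorem Setup.pairs_lift {f : H → ℂ} (hf : InB0 M f) (hs : ∀ h, f h ≠ 0 → e ∈ zpowers h)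
    (hc : π.ker ≤ center H) {o : ℕ}
    (ho : ∀ y : Y, orderOf y = 2 → y ≠ π e → nover ρ y = o) :
    ∑ a : C, ∑ b : C, involInd a * involInd b * S.lift f (a * b) =
      (o : ℂ) ^ 2 * ∑ g : H, ∑ h : H, involInd g * involInd h * f (g * h) := by
  classical
  haveI : Fintype C0 := Fintype.ofFinite _
  -- the involutions of `C` lie in `C0`
  have hC0 : ∀ F : C → ℂ, ∑ a : C, involInd a * F a = ∑ a : C0, involInd a * F a := by
    intro F
    rw [← Finset.sum_subset (Finset.subset_univ (Finset.univ.filter (· ∈ C0)))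
      (fun a _ ha => ?_)]
    · rw [Finset.sum_subtype (Finset.univ.filter (· ∈ C0)) (p := (· ∈ C0)) (by simp)]
      refine Finset.sum_congr rfl fun a _ => ?_
      simp only [involInd, Subgroup.orderOf_coe]
    · simp only [involInd]
      split_ifs with h
      · exact absurd (S.invol_mem (by rw [← pow_two, ← h, pow_orderOf_eq_one])) (by simpa using ha)
      · simp
  -- the function on the image
  let Φ : Y → ℂ := fun y => f (S.π_surj y).choose
  have hΦ : ∀ h, Φ (π h) = f h := fun h => S.inB0_apply_eq hf (S.π_surj (π h)).choose_spec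
  have hlift : ∀ x : C0, S.lift f x = Φ (ρ x) := fun x => by
    rw [S.lift_apply hf, ← S.π_sec, hΦ]
  have hL : ∑ a : C, ∑ b : C, involInd a * involInd b * S.lift f (a * b) =
      ∑ a : C0, ∑ b : C0, involInd a * involInd b * Φ (ρ a * ρ b) := by
    simp only [mul_assoc, ← Finset.mul_sum]
    rw [hC0 fun a => ∑ b : C, involInd b * S.lift f (a * b)]
    refine Finset.sum_congr rfl fun a _ => ?_
    rw [hC0 fun b => S.lift f ((a : C) * b)]
    congr 1
    refine Finset.sum_congr rfl fun b _ => ?_
    rw [← Subgroup.coe_mul, hlift, map_mul]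
  have hR : ∑ g : H, ∑ h : H, involInd g * involInd h * f (g * h) =
      ∑ g : H, ∑ h : H, involInd g * involInd h * Φ (π g * π h) := by
    refine Finset.sum_congr rfl fun g _ => Finset.sum_congr rfl fun h _ => ?_
    rw [← map_mul, hΦ]
  rw [hL, hR, sum_invol_pairs ρ S.ρ_odd, sum_invol_pairs π S.π_odd, Finset.mul_sum]
  refine Finset.sum_congr rfl fun y _ => ?_
  rw [Finset.mul_sum]
  refine Finset.sum_congr rfl fun z _ => ?_
  unfold involInd
  split_ifs with hy hz
  · rw [S.nover_π hc hy, S.nover_π hc hz]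
    by_cases h0 : Φ (y * z) = 0
    · simp [h0]
    have hne : y ≠ π e ∧ z ≠ π e := by
      obtain ⟨g, rfl⟩ := S.π_surj y
      obtain ⟨h, rfl⟩ := S.π_surj z
      rw [← map_mul, hΦ] at h0
      have hmem : π e ∈ zpowers (π (g * h)) := by
        obtain ⟨k, hk⟩ := hs _ h0
        exact ⟨k, by show π (g * h) ^ k = π e; rw [← map_zpow, show (g * h) ^ k = e from hk]⟩
      have hec : ∀ w, Commute (π e) (π w) := fun w =>
        (show Commute e w from (Subgroup.mem_center_iff.1 S.e_center w).symm).map π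
      have he2 : orderOf (π e) = 2 := map_invol π S.π_odd S.e_order
      have two : ∀ {u w : Y}, Commute u w → u * u = 1 → w * w = 1 → u ∈ zpowers (u * w) →
          w = 1 ∨ u = 1 := by
        intro u w hc hu hw ⟨k, hk⟩
        rcases Int.even_or_odd k with ⟨j, rfl⟩ | ⟨j, rfl⟩
        · right
          rw [← hk]
          show (u * w) ^ (j + j) = 1
          rw [← two_mul, _root_.zpow_mul, zpow_two, hc.symm.mul_mul_mul_comm, hu, hw, mul_one,
            one_zpow]
        · left
          have : (u * w) ^ (2 * j + 1) = u * w := by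
            rw [zpow_add_one, _root_.zpow_mul, zpow_two, hc.symm.mul_mul_mul_comm, hu, hw, mul_one,
              one_zpow, one_mul]
          rw [show (u * w) ^ (2 * j + 1) = u from hk] at this
          exact mul_left_cancel ((mul_one u).trans this).symm
      have hsq : ∀ {w : Y}, orderOf w = 2 → w * w = 1 := fun h => by
        rw [← pow_two, ← h, pow_orderOf_eq_one]
      have hne1 : ∀ {w : Y}, orderOf w = 2 → w ≠ 1 := fun h h' => by
        rw [h', orderOf_one] at h; exact absurd h (by norm_num)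
      constructor
      · intro hy'
        rw [map_mul, hy'] at hmem
        exact (two (hec h) (hsq he2) (hsq hz) hmem).elim (hne1 hz) (hne1 he2)
      · intro hz'
        rw [map_mul, hz', ← (hec g).eq] at hmem
        exact (two (hec g) (hsq he2) (hsq hy) hmem).elim (hne1 hy) (hne1 he2)
    rw [ho y hy hne.1, ho z hz hne.2]
    push_cast; ring
  all_goals simp

end Cfsg.Agent.H57.Order
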