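import Cfsg.Agent.H57.Order.Card
import Cfsg.Agent.H57.Order.Pairs
import Cfsg.Agent.H61.RankTwoCenter
import Cfsg.Agent.H39.InvolutionCentralizer
import Cfsg.Agent.S1213
import Cfsg.Agent.S1215

/-!
# From a simple group with semidihedral or wreathed Sylow 2-subgroup to the transfer setting
-/

set_option autoImplicit false
set_option linter.style.haveILetI false
set_option linter.unusedSectionVars false

namespace Cfsg.Agent.H57.Order

open Subgroup Cfsg.Agent.H57.Order.Local
open Cfsg.Agent.H56 (SLn)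

universe u v

theorem no_index_two {G : Type u} [Group G] [Finite G] [IsSimpleGroup G]
    (hG : ¬ IsMulCommutative G) (H : Subgroup G) : H.index ≠ 2 := by
  intro h
  haveI := normal_of_index_eq_two h
  rcases (inferInstance : H.Normal).eq_bot_or_eq_top with rfl | rfl
  · rw [index_bot] at h
    haveI : IsCyclic G := haveI : Fact (Nat.Prime 2) := ⟨Nat.prime_two⟩; isCyclic_of_prime_card h
    exact hG ⟨⟨fun a b => IsCyclic.commGroup.mul_comm a b⟩⟩
  · rw [index_top] at h; omega

theorem isPred_congr {A : Type u} {B : Type v} [Group A] [Group B] (e : A ≃* B)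
    (h : Cfsg.IsQuasiDihedral A ∨ Cfsg.IsWreathed A) :
    Cfsg.IsQuasiDihedral B ∨ Cfsg.IsWreathed B := by
  haveI : Finite A := by
    rcases h with ⟨n, -, hc, -⟩ | ⟨n, -, hc, -⟩ <;>
      exact Nat.finite_of_card_ne_zero (by rw [hc]; positivity)
  rcases h with h | h
  · obtain ⟨m, x, y, g⟩ := H39.exists_sdGen h; exact Or.inl (g.map_equiv e).isQuasiDihedral
  · obtain ⟨m, x, y, w, g⟩ := H39.exists_wGen h; exact Or.inr (g.map_equiv e).isWreathed

variable {G : Type u} [Group G] [Finite G]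

theorem one_class (S : Sylow 2 G)
    (hS : Cfsg.IsQuasiDihedral (S : Subgroup G) ∨ Cfsg.IsWreathed (S : Subgroup G))
    (hi : ∀ H : Subgroup G, H.index ≠ 2) {z a : G} (hz : orderOf z = 2) (ha : orderOf a = 2) :
    IsConj z a := by
  rcases hS with hS | hS
  · obtain ⟨m, x, y, h⟩ := H39.exists_sdGen hS
    exact (h.conj_z_of_no_index_two hi hz).trans (h.conj_z_of_no_index_two hi ha).symm
  · obtain ⟨m, x, y, w, h⟩ := H39.exists_wGen hS
    exact (h.conj_C_of_no_index_two hi hz).trans (h.conj_C_of_no_index_two hi ha).symm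

theorem rank_two {T : Type u} [Group T] [Finite T]
    (hS : Cfsg.IsQuasiDihedral T ∨ Cfsg.IsWreathed T) : H61.TwoRankLeTwo T :=
  hS.elim H61.twoRankLeTwo_of_isQuasiDihedral H61.twoRankLeTwo_of_isWreathed

/-- A four-subgroup contains the central involution. -/
theorem mem_four (S : Sylow 2 G)
    (hS : Cfsg.IsQuasiDihedral (S : Subgroup G) ∨ Cfsg.IsWreathed (S : Subgroup G)) {z : G}
    (hz : orderOf z = 2) (hzS : z ∈ S) (hzc : ∀ s ∈ (S : Subgroup G), s * z = z * s) {U : Subgroup G}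
    (hUS : U ≤ S) (hU : IsKleinFour U) : z ∈ U := by
  set z' : (S : Subgroup G) := ⟨z, hzS⟩ with hz'
  have hzz : z' ∈ center (S : Subgroup G) := mem_center_iff.2 fun s => Subtype.ext (hzc s s.2)
  set U' := U.subgroupOf (S : Subgroup G)
  set E := U' ⊔ zpowers z'
  haveI : (zpowers z').Normal := ⟨fun n hn g => by
    rw [mem_center_iff.1 (zpowers_le.2 hzz hn) g, mul_inv_cancel_right]; exact hn⟩
  have hz2 : z' * z' = 1 := Subtype.ext (by
    show z * z = 1
    rw [← pow_two, ← hz, pow_orderOf_eq_one])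
  have hE : ∀ a ∈ E, a * a = 1 := by
    intro a ha
    obtain ⟨b, hb, _, ⟨k, rfl⟩, rfl⟩ := Subgroup.mem_sup_of_normal_right.1 ha
    have hc : Commute b (z' ^ k) :=
      mem_center_iff.1 (zpow_mem hzz k) b
    have hbb : b * b = 1 := Subtype.ext (by
      have := H39.klein_mul_self hU (t := (b : G)) hb
      exact this)
    show b * z' ^ k * (b * z' ^ k) = 1
    rw [hc.symm.mul_mul_mul_comm, hbb, ← (Commute.refl z').mul_zpow, hz2, one_zpow, one_mul]
  have hle : Nat.card E ≤ 4 := rank_two hS E hE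
  have hU4 : Nat.card U' = 4 := by
    rw [Nat.card_congr (subgroupOfEquivOfLe hUS).toEquiv]; exact hU.card_four
  have heq : U' = E := eq_of_le_of_card_ge le_sup_left (hle.trans hU4.ge)
  have : z' ∈ U' := heq ▸ le_sup_right (a := U') (mem_zpowers z')
  exact this

section Core

variable {C : Type u} [Group C] [Finite C]

theorem odd_core : Odd (Nat.card (Cfsg.oddCore C)) :=
  Nat.coprime_two_right.1 Cores.coprime_card_pPrimeCore

theorem ker_odd : Odd (Nat.card (QuotientGroup.mk' (Cfsg.oddCore C)).ker) := by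
  rw [QuotientGroup.ker_mk']; exact odd_core

/-- Centralisers of 2-groups lift along odd kernels. -/
theorem exists_lift_centralizer {X : Type v} [Group X] [Finite X] (q : C →* X)
    (hodd : Odd (Nat.card q.ker)) (P : Sylow 2 C) {a : C}
    (ha : q a ∈ centralizer (((P : Subgroup C).map q : Subgroup X) : Set X)) :
    ∃ k ∈ q.ker, k * a ∈ centralizer ((P : Subgroup C) : Set C) := by
  haveI : Fact (Nat.Prime 2) := ⟨Nat.prime_two⟩
  set B := (P : Subgroup C) ⊔ q.ker with hB
  have hconj : ∀ x ∈ (P : Subgroup C), a * x * a⁻¹ * x⁻¹ ∈ q.ker := fun x hx => by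
    rw [MonoidHom.mem_ker, map_mul, map_mul, map_mul, map_inv, map_inv,
      ← mem_centralizer_iff.1 ha _ (mem_map_of_mem q hx)]
    group
  have hmem : ∀ x ∈ (P : Subgroup C), a * x * a⁻¹ ∈ B := fun x hx => by
    rw [← inv_mul_cancel_right (a * x * a⁻¹) x]
    exact mul_mem (le_sup_right (a := (P : Subgroup C)) (hconj x hx)) (le_sup_left (b := q.ker) hx)
  let P₁ : Sylow 2 B := P.subtype le_sup_left
  let P₂ : Sylow 2 B := (a • P : Sylow 2 C).subtype (fun x hx => by
    obtain ⟨w, hw, rfl⟩ := hx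
    exact hmem w hw)
  obtain ⟨⟨b, hb⟩, hbP⟩ := MulAction.exists_smul_eq B P₂ P₁
  obtain ⟨w, hw, k', hk', rfl⟩ := Subgroup.mem_sup_of_normal_right.1 hb
  have key : ∀ x ∈ (P : Subgroup C), k' * a * x * (k' * a)⁻¹ ∈ (P : Subgroup C) := by
    intro x hx
    have h1 : (⟨a * x * a⁻¹, hmem x hx⟩ : B) ∈ (P₂ : Subgroup B) := by
      show a * x * a⁻¹ ∈ ((a • P : Sylow 2 C) : Subgroup C)
      exact ⟨x, hx, rfl⟩
    have h2 : (⟨w * k', hb⟩ : B) * ⟨a * x * a⁻¹, hmem x hx⟩ * (⟨w * k', hb⟩ : B)⁻¹ ∈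
        (P₁ : Subgroup B) := by
      rw [← hbP]
      exact ⟨_, h1, rfl⟩
    have h3 : w * k' * (a * x * a⁻¹) * (w * k')⁻¹ ∈ (P : Subgroup C) := h2
    have h4 := mul_mem (mul_mem (inv_mem hw) h3) hw
    rwa [show w⁻¹ * (w * k' * (a * x * a⁻¹) * (w * k')⁻¹) * w = k' * a * x * (k' * a)⁻¹ by group] at h4
  refine ⟨k', hk', mem_centralizer_iff.2 fun x hx => ?_⟩
  set d := k' * a * x * (k' * a)⁻¹ * x⁻¹ with hd
  have hdP : d ∈ (P : Subgroup C) := mul_mem (key x hx) (inv_mem hx)
  have hdk : d ∈ q.ker := by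
    have hn : q k' = 1 := hk'
    rw [MonoidHom.mem_ker, hd, map_mul, map_mul, map_inv, map_mul, map_mul, hn, one_mul, map_inv,
      ← mem_centralizer_iff.1 ha _ (mem_map_of_mem q hx)]
    group
  have hd1 : d = 1 := by
    have h1 := Subgroup.orderOf_dvd_natCard _ hdk
    obtain ⟨k, hk⟩ := IsPGroup.iff_orderOf.1 P.isPGroup' ⟨d, hdP⟩
    rw [Subgroup.orderOf_mk] at hk
    rcases Nat.eq_zero_or_pos k with rfl | hk0
    · rwa [pow_zero, orderOf_eq_one_iff] at hk
    · rw [hk] at h1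
      exact absurd ((dvd_pow_self 2 hk0.ne').trans h1) (Nat.two_dvd_ne_zero.2 (Nat.odd_iff.1 hodd))
  rw [hd, mul_inv_eq_one, mul_inv_eq_iff_eq_mul] at hd1
  exact hd1.symm

theorem sup_comap {X : Type v} [Group X] [Finite X] (q : C →* X) (hq : Function.Surjective q)
    (hodd : Odd (Nat.card q.ker)) (P : Sylow 2 C) (W : Subgroup X)
    (h : W ⊔ centralizer (((P : Subgroup C).map q : Subgroup X) : Set X) = ⊤) :
    W.comap q ⊔ centralizer ((P : Subgroup C) : Set C) = ⊤ := by
  set K := W.comap q ⊔ centralizer ((P : Subgroup C) : Set C)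
  have hker : q.ker ≤ K := fun x hx => le_sup_left (b := centralizer ((P : Subgroup C) : Set C))
    (show q x ∈ W by rw [MonoidHom.mem_ker.1 hx]; exact one_mem _)
  have hmap : K.map q = ⊤ := by
    refine top_unique (h.symm.le.trans (sup_le ?_ ?_))
    · rw [← map_comap_eq_self_of_surjective hq W]; exact map_mono le_sup_left
    · intro x hx
      obtain ⟨a, rfl⟩ := hq x
      obtain ⟨k, hk, hka⟩ := exists_lift_centralizer q hodd P hx
      refine ⟨a, ?_, rfl⟩
      have := mul_mem (inv_mem (hker hk)) (le_sup_right (a := W.comap q) hka)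
      rwa [inv_mul_cancel_left] at this
  rw [← comap_map_eq_self hker, hmap, comap_top]

end Core

/-- The facts about `C / O(C)`. -/
theorem exists_ctx [IsSimpleGroup G] (hG : ¬ IsMulCommutative G) (S : Sylow 2 G)
    (hS : Cfsg.IsQuasiDihedral (S : Subgroup G) ∨ Cfsg.IsWreathed (S : Subgroup G)) {z : G}
    (hz : orderOf z = 2) (hzS : z ∈ S) (hzc : ∀ s ∈ (S : Subgroup G), s * z = z * s)
    {F : Type} [Field F] [Fintype F] (hodd : Odd (Fintype.card F))
    (ι : SLn 2 F →* centralizer ({z} : Set G) ⧸ Cfsg.oddCore (centralizer ({z} : Set G)))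
    (hinj : Function.Injective ι) (hn : ι.range.Normal) :
    ∃ (P : Sylow 2 (centralizer ({z} : Set G)))
      (R : Sylow 2 (centralizer ({z} : Set G) ⧸ Cfsg.oddCore (centralizer ({z} : Set G)))),
      (R : Subgroup (centralizer ({z} : Set G) ⧸ Cfsg.oddCore (centralizer ({z} : Set G)))) =
          (P : Subgroup (centralizer ({z} : Set G))).map (QuotientGroup.mk' _) ∧
      Ctx R ι ∧ Nat.card R = Nat.card S ∧ Nat.card P = Nat.card S ∧
      QuotientGroup.mk' (Cfsg.oddCore (centralizer ({z} : Set G)))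
          ⟨z, mem_centralizer_singleton_iff.2 rfl⟩ = ι (-1) := by
  classical
  haveI : Fact (Nat.Prime 2) := ⟨Nat.prime_two⟩
  let C := centralizer ({z} : Set G)
  let q := QuotientGroup.mk' (Cfsg.oddCore C)
  have hqs : Function.Surjective q := QuotientGroup.mk'_surjective _
  have hSC : (S : Subgroup G) ≤ C := fun s hs => mem_centralizer_singleton_iff.2 (hzc s hs)
  let P : Sylow 2 C := S.subtype hSC
  let R := P.mapSurjective hqs
  have hinjP : Function.Injective (q.comp (P : Subgroup C).subtype) := by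
    rw [← MonoidHom.ker_eq_bot_iff, eq_bot_iff]
    intro x hx
    have h1 := Subgroup.orderOf_dvd_natCard q.ker
      (show (x : C) ∈ q.ker from hx)
    obtain ⟨k, hk⟩ := IsPGroup.iff_orderOf.1 P.isPGroup' x
    rw [Subgroup.orderOf_coe, hk] at h1
    rcases Nat.eq_zero_or_pos k with rfl | hk0
    · rw [pow_zero, orderOf_eq_one_iff] at hk; exact mem_bot.2 hk
    · exact absurd ((dvd_pow_self 2 hk0.ne').trans h1)
        (Nat.two_dvd_ne_zero.2 (Nat.odd_iff.1 ker_odd))
  let eP : (P : Subgroup C) ≃* (R : Subgroup (C ⧸ Cfsg.oddCore C)) :=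
    (MulEquiv.ofBijective (q.subgroupMap (P : Subgroup C))
      ⟨fun a b h => hinjP (congrArg Subtype.val h), q.subgroupMap_surjective _⟩ :)
  let eS : (S : Subgroup G) ≃* (P : Subgroup C) := (subgroupOfEquivOfLe hSC).symm
  -- centrality modulo the core
  have hcen : ∀ x ∈ center (P : Subgroup C), q (x : C) ∈ center (C ⧸ Cfsg.oddCore C) := by
    obtain ⟨R₀, hR₀, hQ⟩ := S1213.result S hS (no_index_two hG) z hz
    obtain ⟨g, hg⟩ := MulAction.exists_smul_eq C P R₀
    have hS₀ := isPred_congr ((eS.trans (P.equivSMul g)).trans (MulEquiv.subgroupCongr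
      (congrArg (fun T : Sylow 2 C => (T : Subgroup C)) hg))) hS
    intro x hx
    have hx₀ : g * x.1 * g⁻¹ ∈ (center (R₀ : Subgroup C)).map (R₀ : Subgroup C).subtype := by
      have hmem : g * x.1 * g⁻¹ ∈ (R₀ : Subgroup C) := by rw [← hg]; exact ⟨x.1, x.2, rfl⟩
      refine ⟨⟨_, hmem⟩, mem_center_iff.2 fun r => Subtype.ext ?_, rfl⟩
      obtain ⟨r', hr', e⟩ : (r : C) ∈ ((g • P : Sylow 2 C) : Subgroup C) := by
        rw [hg]; exact r.2
      have e2 : r' * x.1 = x.1 * r' := congrArg Subtype.val (mem_center_iff.1 hx ⟨r', hr'⟩)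
      show (r : C) * (g * x.1 * g⁻¹) = g * x.1 * g⁻¹ * r
      rw [← e]
      show g * r' * g⁻¹ * (g * x.1 * g⁻¹) = g * x.1 * g⁻¹ * (g * r' * g⁻¹)
      rw [show g * r' * g⁻¹ * (g * x.1 * g⁻¹) = g * (r' * x.1) * g⁻¹ by group, e2]
      group
    have hc : q (g * x.1 * g⁻¹) ∈ center (C ⧸ Cfsg.oddCore C) := by
      refine mem_center_iff.2 fun w => ?_
      obtain ⟨a, rfl⟩ := hqs w
      obtain ⟨o, ho, c, hc, rfl⟩ := S1215.result R₀ hS₀ hQ a
      have h1 : q o = 1 := (QuotientGroup.eq_one_iff o).2 ho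
      rw [map_mul q o c, h1, one_mul, ← map_mul, ← map_mul]
      exact congrArg q (mem_centralizer_iff.1 hc _ hx₀).symm
    have h := (inferInstance : (center (C ⧸ Cfsg.oddCore C)).Normal).conj_mem _ hc (q g⁻¹)
    rwa [← map_inv, ← map_mul, ← map_mul,
      show g⁻¹ * (g * x.1 * g⁻¹) * g⁻¹⁻¹ = x.1 by group] at h
  have hctx : Ctx R ι := {
    shape := isPred_congr (eS.trans eP) hS
    core := Cores.pPrimeCore_quotient_pPrimeCore
    odd := hodd
    inj := hinj
    normal := hn
    central := by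
      rintro _ ⟨r, hr, rfl⟩
      obtain ⟨x, rfl⟩ := eP.surjective r
      exact hcen x (mem_center_iff.2 fun y => eP.injective (by
        rw [map_mul, map_mul]; exact mem_center_iff.1 hr (eP y))) }
  refine ⟨P, R, rfl, hctx, (Nat.card_congr (eS.trans eP).toEquiv).symm,
    (Nat.card_congr eS.toEquiv).symm, ?_⟩
  set zC : C := ⟨z, mem_centralizer_singleton_iff.2 rfl⟩ with hzC
  have hzP : zC ∈ (P : Subgroup C) := hzS
  have hzR : q zC ∈ zc R := ⟨eP ⟨zC, hzP⟩, mem_center_iff.2 fun r => by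
    obtain ⟨x, rfl⟩ := eP.surjective r
    rw [← map_mul, ← map_mul]
    exact congrArg eP (Subtype.ext (Subtype.ext (hzc _ x.2))), rfl⟩
  haveI : Fintype C := Fintype.ofFinite _
  haveI : Fintype (C ⧸ Cfsg.oddCore C) := Fintype.ofFinite _
  have hzo : orderOf (q zC) = 2 := map_invol q ker_odd
    (by rw [← Subgroup.orderOf_coe]; exact hz)
  have hnt : ι (-1) ∈ zc R := (ι_mem_zc hctx).2 (mem_center_iff.2 fun s => Subtype.ext (by simp))
  have hcyc : IsCyclic (zc R) := by
    haveI := (TwoGroup.card_center_cases hctx.shape).1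
    exact ((center (R : Subgroup (C ⧸ Cfsg.oddCore C))).equivMapOfInjective
      (R : Subgroup (C ⧸ Cfsg.oddCore C)).subtype (Subgroup.subtype_injective _)).isCyclic.1 inferInstance
  obtain ⟨w, hw⟩ := hcyc.exists_generator
  haveI : Fintype (C ⧸ Cfsg.oddCore C) := Fintype.ofFinite _
  have hgen : ∀ d ∈ zc R, d ∈ zpowers (w : C ⧸ Cfsg.oddCore C) := fun d hd => by
    obtain ⟨k, hk⟩ := hw ⟨d, hd⟩
    exact ⟨k, congrArg Subtype.val hk⟩
  exact H84.SD.eq_of_mem_zpowers (hgen _ hzR) (hgen _ hnt)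
    ((pow_two _).symm.trans (orderOf_dvd_iff_pow_eq_one.1 hzo.dvd))
    (by rw [← map_mul, neg_sq hctx, map_one])
    (fun e => by rw [e, orderOf_one] at hzo; omega)
    (fun e => neg_ne hctx (hinj (by rw [e, map_one])))

end Cfsg.Agent.H57.Order
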