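import Cfsg.Agent.Cores.PrincipalLambda
import Cfsg.Agent.BlockBasic.Orth
import Cfsg.Agent.CharBasic.Complete
import Cfsg.Agent.CharInduce.Ops

/-!
# Class functions in the span of the principal 2-block

Surjections with odd kernels preserve the principal 2-block; cutting a function of the span down to
a union of 2-sections stays in the span.
-/

set_option autoImplicit false
set_option linter.style.haveILetI false

namespace Cfsg.Agent.H57.Order

open Cfsg Cfsg.Agent.CharBasic Cfsg.Agent.BlockBasic
open scoped ComplexConjugate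

universe u v

section hom

variable {X : Type u} {Y : Type v} [Group X] [Group Y]

theorem card_fibre (f : X →* Y) (hf : Function.Surjective f) (y : Y) :
    Nat.card {x : X // f x = y} = Nat.card f.ker := by
  obtain ⟨g, rfl⟩ := hf y
  exact Nat.card_congr
    { toFun := fun x => ⟨g⁻¹ * x.1, by rw [MonoidHom.mem_ker, map_mul, map_inv, x.2, inv_mul_cancel]⟩
      invFun := fun k => ⟨g * k.1, by rw [map_mul, MonoidHom.mem_ker.1 k.2, mul_one]⟩
      left_inv := fun x => Subtype.ext (mul_inv_cancel_left _ _)
      right_inv := fun k => Subtype.ext (inv_mul_cancel_left _ _) }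

variable [Fintype X] [Fintype Y]

open scoped Classical in
theorem sum_comp (f : X →* Y) (hf : Function.Surjective f) (Φ : Y → ℂ) :
    ∑ x : X, Φ (f x) = (Nat.card f.ker : ℂ) * ∑ y : Y, Φ y := by
  rw [← Finset.sum_fiberwise Finset.univ f, Finset.mul_sum]
  refine Finset.sum_congr rfl fun y _ => ?_
  rw [Finset.sum_congr rfl (g := fun _ => Φ y) fun x hx => by rw [(Finset.mem_filter.1 hx).2],
    Finset.sum_const, nsmul_eq_mul]
  congr 2
  rw [← card_fibre f hf y, Nat.card_eq_fintype_card, Fintype.card_subtype]

theorem card_eq_ker_mul (f : X →* Y) (hf : Function.Surjective f) :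
    (Nat.card X : ℂ) = (Nat.card f.ker : ℂ) * Nat.card Y := by
  simpa using sum_comp f hf fun _ => 1

/-- Inner products may be taken upstairs. -/
theorem classInner_comp (f : X →* Y) (hf : Function.Surjective f) (φ ψ : Y → ℂ) :
    classInner (fun x => φ (f x)) (fun x => ψ (f x)) = classInner φ ψ := by
  rw [classInner_def, classInner_def, sum_comp f hf fun y => φ y * conj (ψ y),
    card_eq_ker_mul f hf]
  have h : (Nat.card f.ker : ℂ) ≠ 0 := Nat.cast_ne_zero.2 Nat.card_pos.ne'
  field_simp

omit [Fintype X] [Fintype Y] in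
theorem odd_orderOf_iff (f : X →* Y) (hodd : Odd (Nat.card f.ker)) (x : X) :
    ¬ 2 ∣ orderOf x ↔ ¬ 2 ∣ orderOf (f x) := by
  refine ⟨fun h hy => h (hy.trans (orderOf_map_dvd f x)), fun h hx => ?_⟩
  have hk : x ^ orderOf (f x) ∈ f.ker := by rw [MonoidHom.mem_ker, map_pow, pow_orderOf_eq_one]
  have hd : orderOf x ∣ orderOf (f x) * Nat.card f.ker := by
    rw [orderOf_dvd_iff_pow_eq_one, pow_mul]
    exact congrArg Subtype.val (pow_card_eq_one' (x := (⟨_, hk⟩ : f.ker)))
  exact ((Nat.prime_two).dvd_mul.1 (hx.trans hd)).elim h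
    fun e => Nat.not_even_iff_odd.2 hodd (even_iff_two_dvd.2 e)

variable {M : Ideal AlgInt}

/-- The pull back of a character. -/
noncomputable def compIrr (f : X →* Y) (hf : Function.Surjective f) (ψ : IrrCharacter Y) :
    IrrCharacter X :=
  ⟨fun x => (ψ : Y → ℂ) (f x), CharInduce.IsIrr.comp ψ.2 f hf⟩

theorem compIrr_mem_principal_iff (hM : IsPModular 2 M) (f : X →* Y) (hf : Function.Surjective f)
    (hodd : Odd (Nat.card f.ker)) (ψ : IrrCharacter Y) :
    compIrr f hf ψ ∈ principalBlock M X ↔ ψ ∈ principalBlock M Y := by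
  classical
  haveI : Fact (Nat.Prime 2) := ⟨Nat.prime_two⟩
  rw [Cores.mem_principalBlock_iff_sum_regular hM, Cores.mem_principalBlock_iff_sum_regular hM,
    Finset.sum_filter, Finset.sum_filter]
  have h : ∀ x, (if ¬ 2 ∣ orderOf x then (compIrr f hf ψ : X → ℂ) x else 0) =
      (fun y : Y => if ¬ 2 ∣ orderOf y then (ψ : Y → ℂ) y else 0) (f x) := fun x => by
    simp only [compIrr, odd_orderOf_iff f hodd x]
  rw [Finset.sum_congr rfl fun x _ => h x,
    sum_comp f hf (fun y : Y => if ¬ 2 ∣ orderOf y then (ψ : Y → ℂ) y else 0), mul_ne_zero_iff,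
    and_iff_right (Nat.cast_ne_zero.2 Nat.card_pos.ne')]

/-- The characters of the principal block come from the image. -/
theorem exists_compIrr_eq (hM : IsPModular 2 M) (f : X →* Y) (hf : Function.Surjective f)
    (hodd : Odd (Nat.card f.ker)) {χ : IrrCharacter X} (hχ : χ ∈ principalBlock M X) :
    ∃ ψ ∈ principalBlock M Y, compIrr f hf ψ = χ := by
  classical
  haveI : Fintype (X ⧸ f.ker) := Fintype.ofFinite _
  haveI : Fact (Nat.Prime 2) := ⟨Nat.prime_two⟩
  obtain ⟨g, -, hg, hirr⟩ := CharInduce.IsChar.exists_deflate (IsIrr.isCharacter χ.2) f.ker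
    fun n hn => H82.apply_eq_of_mem_principalBlock hM hχ f.ker
      (fun h => Nat.not_even_iff_odd.2 hodd (even_iff_two_dvd.2 h)) hn
  let e := QuotientGroup.quotientKerEquivOfSurjective f hf
  let ψ : IrrCharacter Y := ⟨fun y => g (e.symm y),
    CharInduce.IsIrr.comp (hirr χ.2) e.symm.toMonoidHom e.symm.surjective⟩
  have he : compIrr f hf ψ = χ := Subtype.ext (funext fun x => by
    show g (e.symm (f x)) = _
    rw [show f x = e (x : X ⧸ f.ker) from rfl, e.symm_apply_apply, hg])
  refine ⟨ψ, (compIrr_mem_principal_iff hM f hf hodd ψ).1 ?_, he⟩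
  rw [he]; exact hχ

end hom

section span

variable {G : Type u} [Group G] [Fintype G] {M : Ideal AlgInt}

/-- A class function orthogonal to the characters outside the principal block. -/
def InB0 (M : Ideal AlgInt) (f : G → ℂ) : Prop :=
  IsClassFunction G f ∧
    ∀ θ : IrrCharacter G, θ ∉ principalBlock M G → classInner f (θ : G → ℂ) = 0

open scoped Classical in
theorem InB0.expansion {f : G → ℂ} (h : InB0 M f) (x : G) :
    f x = ∑ θ : IrrCharacter G with θ ∈ principalBlock M G,
      classInner f (θ : G → ℂ) * (θ : G → ℂ) x := by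
  conv_lhs => rw [classFunction_expansion h.1]
  rw [Finset.sum_apply, Finset.sum_filter]
  refine Finset.sum_congr rfl fun θ _ => ?_
  split_ifs with hθ
  · rfl
  · simp [h.2 θ hθ]

theorem InB0.irr {θ : IrrCharacter G} (hθ : θ ∈ principalBlock M G) : InB0 M (θ : G → ℂ) := by
  refine ⟨fun g x => IsIrr.isClassFunction θ.2 g x, fun χ hχ => ?_⟩
  exact classInner_irr_of_ne θ.2 χ.2 fun e => hχ (Subtype.ext e ▸ hθ)

theorem InB0.sub {f g : G → ℂ} (hf : InB0 M f) (hg : InB0 M g) : InB0 M (f - g) :=
  ⟨fun x y => by simp only [Pi.sub_apply, hf.1 x y, hg.1 x y],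
    fun θ hθ => by rw [classInner_sub_left, hf.2 θ hθ, hg.2 θ hθ, sub_zero]⟩

open scoped Classical in
/-- Multiplying by the indicator of a union of 2-sections keeps a function in the span. -/
theorem InB0.mul_ind [Fact (Nat.Prime 2)] (hM : IsPModular 2 M) {f : G → ℂ} (hf : InB0 M f)
    (A : G → Prop) (hA : ∀ x y : G, IsConj (pPart (p := 2) x) (pPart (p := 2) y) → (A x ↔ A y)) :
    InB0 M (fun x => if A x then f x else 0) := by
  have hcls : IsClassFunction G (fun x => if A x then f x else 0) := fun g x => by
    have : A (x * g * x⁻¹) ↔ A g :=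
      (hA g (x * g * x⁻¹) (isConj_pPart (isConj_iff.2 ⟨x, rfl⟩))).symm
    simp only [this, hf.1 g x]
  refine ⟨hcls, fun θ hθ => ?_⟩
  have key : ∀ x : G, (if A x then f x else 0) = ∑ η : IrrCharacter G,
      if η ∈ principalBlock M G then
        classInner (fun y => if A y then f y else 0) (η : G → ℂ) * (η : G → ℂ) x else 0 := by
    intro x
    have hk : ∀ y : G, (if A y then f y else 0) * blockKernel (principalBlock M G) x y =
        (if A x then f y else 0) * blockKernel (principalBlock M G) x y := fun y => by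
      by_cases h : IsConj (pPart (p := 2) x) (pPart (p := 2) y)
      · simp only [hA x y h]
      · rw [blockKernel_eq_zero hM (isPBlock_principalBlock M) h, mul_zero, mul_zero]
    have hexp : ∀ F : G → ℂ, (∑ η : IrrCharacter G, if η ∈ principalBlock M G then
        classInner F (η : G → ℂ) * (η : G → ℂ) x else 0) =
        (Nat.card G : ℂ)⁻¹ * ∑ y : G, F y * blockKernel (principalBlock M G) x y := fun F => by
      simp only [blockKernel, finsum_mem_eq_sum_ite, Finset.mul_sum]
      rw [Finset.sum_comm]
      refine Finset.sum_congr rfl fun η _ => ?_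
      split_ifs
      · rw [classInner_def, Finset.mul_sum, Finset.sum_mul]
        exact Finset.sum_congr rfl fun y _ => by ring
      · simp
    rw [hexp, Finset.sum_congr rfl fun y _ => hk y, ← hexp, ← Finset.sum_filter]
    by_cases hx : A x
    · simp only [hx, if_true, ← hf.expansion x]
    · simp [hx, classInner_def]
  have hfun : (fun x => if A x then f x else 0) = ∑ η : IrrCharacter G,
      (if η ∈ principalBlock M G then classInner (fun y => if A y then f y else 0) (η : G → ℂ)
        else 0) • (η : G → ℂ) := by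
    funext x
    rw [key x, Finset.sum_apply]
    refine Finset.sum_congr rfl fun η _ => ?_
    split_ifs <;> simp
  rw [hfun, classInner_sum_irr, if_neg hθ]

end span

end Cfsg.Agent.H57.Order
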