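import Cfsg.Agent.H57.Order.Invol
import Cfsg.Agent.Linear.Order

/-!
# The order of the linear part
-/

set_option autoImplicit false
set_option linter.style.haveILetI false
set_option linter.unusedSectionVars false

namespace Cfsg.Agent.H57.Order.Local

open Subgroup
open Cfsg.Agent.H56 (SLn smat)

universe u

variable {X : Type u} [Group X] [Finite X] {R : Sylow 2 X} {F : Type} [Field F] [Fintype F]
  {ι : SLn 2 F →* X}

theorem Shape.card_W (P : Ctx R ι) {c : Fˣ} {W : Subgroup X} {y z : X} (Sh : Shape R ι c W y z) :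
    Nat.card W = Fintype.card F * (Fintype.card F ^ 2 - 1) * Nat.card (zc R) := by
  classical
  have hc : ∀ {d : X}, d ∈ zc R → ∀ g, Commute d g := fun hd g =>
    (mem_center_iff.1 (P.central hd) g).symm
  let f : SLn 2 F × zc R →* X :=
    { toFun := fun p => ι p.1 * (p.2 : X)
      map_one' := by simp
      map_mul' := fun p r => by
        simp only [Prod.fst_mul, Prod.snd_mul, map_mul, Subgroup.coe_mul]
        exact (hc p.2.2 (ι r.1)).symm.mul_mul_mul_comm _ _ }
  have htZ : ι (-1) ∈ zc R := (ι_mem_zc P).2 (mem_center_iff.2 fun s => Subtype.ext (by simp))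
  have ht : (⟨ι (-1), htZ⟩ : zc R) ≠ 1 := fun e => neg_ne P (P.inj (by
    rw [map_one]; exact congrArg Subtype.val e))
  have hker : Nat.card f.ker = 2 := by
    rw [Nat.card_eq_two_iff' (1 : f.ker)]
    have hm : f (-1, ⟨ι (-1), htZ⟩) = 1 := by
      show ι (-1) * ι (-1) = 1
      rw [← map_mul, neg_sq P, map_one]
    refine ⟨⟨_, hm⟩, fun e => ht (congrArg (fun p : f.ker => (p : SLn 2 F × zc R).2) e), ?_⟩
    rintro ⟨⟨s, d⟩, hp⟩ hne
    have hp' : ι s * (d : X) = 1 := hp
    have hs : ι s ∈ zc R := by rw [eq_inv_of_mul_eq_one_left hp']; exact inv_mem d.2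
    rcases sq_one P (H84.QDCent.center_sq ((ι_mem_zc P).1 hs)) with rfl | rfl
    · rw [map_one, one_mul] at hp'
      exact absurd (show (⟨(1, d), hp⟩ : f.ker) = 1 from
        Subtype.ext (Prod.ext rfl (Subtype.ext hp'))) hne
    · refine Subtype.ext (Prod.ext rfl (Subtype.ext ?_))
      show (d : X) = ι (-1)
      rw [eq_inv_of_mul_eq_one_right hp', inv_eq_of_mul_eq_one_right]
      rw [← map_mul, neg_sq P, map_one]
  have hfW : ∀ p, f p ∈ W := fun p => mul_mem (Sh.range_le ⟨p.1, rfl⟩) (Sh.zc_le p.2.2)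
  let e : Bool × f.range → W := fun p => match p.1 with
    | false => ⟨p.2.1, by obtain ⟨x, hx⟩ := p.2.2; exact hx ▸ hfW x⟩
    | true => ⟨y * p.2.1, mul_mem Sh.y_mem (by obtain ⟨x, hx⟩ := p.2.2; exact hx ▸ hfW x)⟩
  have hy : y ∉ f.range := by rintro ⟨⟨s, d⟩, h⟩; exact Sh.y_not_mem s d d.2 h.symm
  have hbij : Function.Bijective e := by
    refine ⟨?_, ?_⟩
    · rintro ⟨a, x⟩ ⟨b, x'⟩ h
      have h' := congrArg Subtype.val h
      cases a <;> cases b <;> simp only [e] at h'
      · exact Prod.ext rfl (Subtype.ext h')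
      · refine absurd ?_ hy
        rw [show y = x.1 * x'.1⁻¹ by rw [h', mul_inv_cancel_right]]
        exact mul_mem x.2 (inv_mem x'.2)
      · refine absurd ?_ hy
        rw [show y = x'.1 * x.1⁻¹ by rw [← h', mul_inv_cancel_right]]
        exact mul_mem x'.2 (inv_mem x.2)
      · exact Prod.ext rfl (Subtype.ext (mul_left_cancel h'))
    · rintro ⟨w, hw⟩
      obtain ⟨s, d, hd, rfl | rfl⟩ := Sh.decomp w hw
      · exact ⟨(false, ⟨_, (s, ⟨d, hd⟩), rfl⟩), Subtype.ext rfl⟩
      · exact ⟨(true, ⟨_, (s, ⟨d, hd⟩), rfl⟩), Subtype.ext rfl⟩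
  rw [← Nat.card_congr (Equiv.ofBijective e hbij), Nat.card_prod,
    show Nat.card Bool = 2 by simp]
  have h1 := f.ker.card_eq_card_quotient_mul_card_subgroup
  rw [Nat.card_congr (QuotientGroup.quotientKerEquivRange f).toEquiv, hker, Nat.card_prod] at h1
  rw [mul_comm, ← h1, Linear.card_SL_two]

/-- The two-part of the order of the linear part. -/
theorem Shape.card_R (P : Ctx R ι) {c : Fˣ} {W : Subgroup X} {y z : X} (Sh : Shape R ι c W y z) :
    padicValNat 2 (Nat.card R) =
      padicValNat 2 (Fintype.card F ^ 2 - 1) + padicValNat 2 (Nat.card (zc R)) := by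
  haveI : Fact (Nat.Prime 2) := ⟨Nat.prime_two⟩
  have hq : 2 ≤ Fintype.card F := Fintype.one_lt_card
  have hq2 : Fintype.card F ^ 2 - 1 ≠ 0 := by
    have : 4 ≤ Fintype.card F ^ 2 := by nlinarith
    omega
  have h0 : padicValNat 2 (Fintype.card F) = 0 := padicValNat.eq_zero_of_not_dvd fun h =>
    Nat.not_even_iff_odd.2 P.odd (even_iff_two_dvd.2 h)
  let R' : Sylow 2 W := R.subtype Sh.R_le
  have hR : Nat.card R' = Nat.card R := Nat.card_congr (Subgroup.subgroupOfEquivOfLe Sh.R_le).toEquiv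
  rw [← hR, R'.card_eq_multiplicity, padicValNat.prime_pow, Nat.factorization_def _ Nat.prime_two,
    Sh.card_W P, padicValNat.mul (mul_ne_zero (by omega) hq2) Nat.card_pos.ne',
    padicValNat.mul (by omega) hq2, h0, zero_add]

end Cfsg.Agent.H57.Order.Local
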