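import Cfsg.Agent.H57.Order.Local
import Cfsg.Agent.H84.SD.Engine

/-!
# Covering the linear part by a model
-/

set_option autoImplicit false
set_option linter.style.haveILetI false
set_option linter.unusedSectionVars false

namespace Cfsg.Agent.H57.Order.Local

open Subgroup
open Cfsg.Agent.H56 (SLn)
 

universe u v w

/-- A homomorphism on a subgroup of index two extends by one compatible element. -/
theorem exists_hom_of_index_two {H : Type u} [Group H] {W : Type v} [Group W] (S₀ : Subgroup H)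
    (hi : S₀.index = 2) {h₀ : H} (h₀S : h₀ ∉ S₀) (f : S₀ →* W) (y : W)
    (hconj : ∀ (s : S₀) (h : h₀ * (s : H) * h₀⁻¹ ∈ S₀), y * f s * y⁻¹ = f ⟨h₀ * s * h₀⁻¹, h⟩)
    (hsq : ∀ h : h₀ * h₀ ∈ S₀, y * y = f ⟨h₀ * h₀, h⟩) :
    ∃ π : H →* W, (∀ s : S₀, π s = f s) ∧ π h₀ = y := by
  classical
  haveI : S₀.Normal := normal_of_index_eq_two hi
  have hout : ∀ {g : H}, g ∉ S₀ → h₀⁻¹ * g ∈ S₀ := fun hg =>
    (mul_mem_iff_of_index_two hi).2 (iff_of_false (by simpa using h₀S) hg)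
  let F : H → W := fun g => if hg : g ∈ S₀ then f ⟨g, hg⟩ else y * f ⟨h₀⁻¹ * g, hout hg⟩
  have hin : ∀ g (hg : g ∈ S₀), F g = f ⟨g, hg⟩ := fun g hg => dif_pos hg
  have hh : ∀ (s : H) (hs : s ∈ S₀), F (h₀ * s) = y * f ⟨s, hs⟩ := fun s hs => by
    have hn : h₀ * s ∉ S₀ := fun h => h₀S (by simpa using mul_mem h (inv_mem hs))
    simp only [F, dif_neg hn]
    congr 2
    exact Subtype.ext (inv_mul_cancel_left _ _)
  have hcase : ∀ g, g ∈ S₀ ∨ ∃ s ∈ S₀, g = h₀ * s := fun g =>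
    (em (g ∈ S₀)).imp id fun hg => ⟨_, hout hg, (mul_inv_cancel_left _ _).symm⟩
  have hsh : ∀ {s : H}, s ∈ S₀ → h₀⁻¹ * s * h₀ ∈ S₀ := fun hs => by
    simpa using ‹S₀.Normal›.conj_mem _ hs h₀⁻¹
  have hfc : ∀ (s : H) (hs : s ∈ S₀), f ⟨s, hs⟩ * y = y * f ⟨_, hsh hs⟩ := fun s hs => by
    have h := hconj ⟨_, hsh hs⟩ (by simpa [mul_assoc] using hs)
    rw [mul_inv_eq_iff_eq_mul] at h
    rw [h]
    congr 2
    exact Subtype.ext (by simp [mul_assoc])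
  have hsq' : h₀ * h₀ ∈ S₀ := mul_self_mem_of_index_two hi h₀
  refine ⟨MonoidHom.mk' F fun a b => ?_, fun s => hin _ s.2, by
    have := hh 1 (one_mem _)
    rwa [mul_one, show (⟨1, one_mem _⟩ : S₀) = 1 from rfl, map_one, mul_one] at this⟩
  rcases hcase a with ha | ⟨s, hs, rfl⟩ <;> rcases hcase b with hb | ⟨r, hr, rfl⟩
  · rw [hin _ ha, hin _ hb, hin _ (mul_mem ha hb), ← map_mul]; rfl
  · rw [hin _ ha, hh _ hr, ← mul_assoc (f _) y, hfc _ ha, mul_assoc y, ← map_mul,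
      show a * (h₀ * r) = h₀ * (h₀⁻¹ * a * h₀ * r) by simp [mul_assoc],
      hh _ (mul_mem (hsh ha) hr)]
    rfl
  · rw [hh _ hs, hin _ hb, mul_assoc h₀, hh _ (mul_mem hs hb), mul_assoc y, ← map_mul]; rfl
  · rw [hh _ hs, hh _ hr, mul_assoc y, ← mul_assoc (f _) y, hfc _ hs, mul_assoc y (f _),
      ← map_mul, ← mul_assoc y y, hsq hsq', ← map_mul,
      show h₀ * s * (h₀ * r) = h₀ * h₀ * (h₀⁻¹ * s * h₀ * r) by simp [mul_assoc],
      hin _ (mul_mem hsq' (mul_mem (hsh hs) hr))]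
    rfl

variable {X : Type u} [Group X] [Finite X] {R : Sylow 2 X} {F : Type} [Field F] [Fintype F]
  {ι : SLn 2 F →* X}

/-- A model covers the linear part. -/
theorem Shape.exists_cover (P : Ctx R ι) {c : Fˣ} {W : Subgroup X} {y z : X}
    (Sh : Shape R ι c W y z) {H : Type v} [Group H] [Finite H] {μ : Type w} [CommGroup μ] [Finite μ]
    (Φ : SLn 2 F × μ →* H) {ε μ₀ : μ}
    (hker : ∀ p, Φ p = 1 → p = 1 ∨ p = (-1, ε))
    (hε : Φ (-1, ε) = 1) (hε2 : orderOf ε = 2) (hμ₀ : ∀ a : μ, a ∈ zpowers μ₀)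
    (hcard : Nat.card (zc R) ∣ Nat.card μ) (hodd : Odd (Nat.card μ / Nat.card (zc R)))
    (hcen : ∀ a, Φ (1, a) ∈ center H) {h₀ : H} (h₀S : h₀ ∉ Φ.range) (hi : Φ.range.index = 2)
    (hconj : ∀ s, h₀ * Φ (s, 1) * h₀⁻¹ = Φ (conjD c s, 1))
    (hsq : ∀ h : SLn 2 F, (h : Matrix (Fin 2) (Fin 2) F) =
        (c : F)⁻¹ • (!![(c : F), 0; 0, 1] * !![(c : F), 0; 0, 1]) → h₀ * h₀ = Φ (h, μ₀)) :
    ∃ π : H →* W, Function.Surjective π ∧ π.ker ≤ center H ∧ Odd (Nat.card π.ker) ∧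
      ∀ s, (π (Φ (s, 1)) : X) = ι s := by
  classical
  obtain ⟨h, hy2, hh⟩ := Sh.y_sq
  have hz := Sh.z_mem
  let Z := zc R
  have hgenZ : ∀ d : Z, d ∈ zpowers (⟨z, hz⟩ : Z) := fun d => by
    obtain ⟨k, hk⟩ := Sh.z_gen _ d.2
    exact ⟨k, Subtype.ext hk⟩
  have hcardZ : Nat.card Z = orderOf (⟨z, hz⟩ : Z) := (orderOf_eq_card_of_forall_mem_zpowers hgenZ).symm
  have hord : orderOf μ₀ = Nat.card μ := orderOf_eq_card_of_forall_mem_zpowers hμ₀
  let χ : μ →* Z := monoidHomOfForallMemZpowers hμ₀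
    (g' := (⟨z, hz⟩ : Z)) (by rw [hord, ← hcardZ]; exact hcard)
  have hχ : χ μ₀ = ⟨z, hz⟩ := monoidHomOfForallMemZpowers_apply_gen _ _
  have hχsurj : Function.Surjective χ := fun d => by
    obtain ⟨k, hk⟩ := hgenZ d
    exact ⟨μ₀ ^ k, by rw [map_zpow, hχ]; exact hk⟩
  have hχker : Odd (Nat.card χ.ker) := by
    have h1 := χ.ker.card_eq_card_quotient_mul_card_subgroup
    rw [Nat.card_congr (QuotientGroup.quotientKerEquivOfSurjective χ hχsurj).toEquiv] at h1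
    rwa [show Nat.card χ.ker = Nat.card μ / Nat.card Z by
      rw [h1, Nat.mul_div_cancel_left _ Nat.card_pos]]
  -- the image of `ε`
  have hzcyc : IsCyclic Z := ⟨⟨⟨z, hz⟩, hgenZ⟩⟩
  have htZ : ι (-1) ∈ Z := (ι_mem_zc P).2 (mem_center_iff.2 fun s => Subtype.ext (by simp))
  have hεt : (χ ε : X) = ι (-1) := by
    have h1 : χ ε ≠ 1 := fun h => by
      have := Subgroup.orderOf_dvd_natCard χ.ker (MonoidHom.mem_ker.2 h)
      rw [hε2] at this
      exact Nat.not_even_iff_odd.2 hχker (even_iff_two_dvd.2 this)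
    have h2 : χ ε * χ ε = 1 := by rw [← map_mul, ← pow_two, ← hε2, pow_orderOf_eq_one, map_one]
    haveI : Fintype Z := Fintype.ofFinite _
    have ht2 : (⟨ι (-1), htZ⟩ : Z) * ⟨ι (-1), htZ⟩ = 1 :=
      Subtype.ext (by rw [Subgroup.coe_mul, ← map_mul, neg_sq P, map_one]; rfl)
    have ht1 : (⟨ι (-1), htZ⟩ : Z) ≠ 1 := fun h => neg_ne P (P.inj (by
      rw [map_one]; exact congrArg Subtype.val h))
    exact congrArg Subtype.val (H84.SD.eq_of_mem_zpowers (hgenZ (χ ε)) (hgenZ _) h2 ht2 h1 ht1)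
  have hcom : ∀ (s : SLn 2 F) (a : μ), Commute (ι s) (χ a : X) := fun s a =>
    (Subgroup.mem_center_iff.1 (P.central (χ a).2) (ι s))
  let g : SLn 2 F × μ →* W := MonoidHom.mk'
    (fun p => ⟨ι p.1 * (χ p.2 : X), mul_mem (Sh.range_le ⟨_, rfl⟩) (Sh.zc_le (χ p.2).2)⟩)
    fun p r => Subtype.ext (by
      show ι (p.1 * r.1) * (χ (p.2 * r.2) : X) = ι p.1 * (χ p.2 : X) * (ι r.1 * (χ r.2 : X))
      rw [map_mul, map_mul, Subgroup.coe_mul, (hcom r.1 p.2).symm.mul_mul_mul_comm])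
  have hgker : ∀ p, Φ p = 1 → g p = 1 := fun p hp => by
    rcases hker p hp with rfl | rfl
    · exact map_one g
    · refine Subtype.ext ?_
      show ι (-1) * (χ ε : X) = 1
      rw [hεt, ← map_mul, neg_sq P, map_one]
  let f : Φ.range →* W := Φ.rangeRestrict.liftOfSurjective Φ.rangeRestrict_surjective
    ⟨g, fun p hp => hgker p (congrArg Subtype.val (MonoidHom.mem_ker.1 hp))⟩
  have hf : ∀ p, f ⟨Φ p, p, rfl⟩ = g p := fun p =>
    MonoidHom.liftOfRightInverse_comp_apply _ _ _ _ p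
  have hconj' : ∀ (s : Φ.range) (hm : h₀ * (s : H) * h₀⁻¹ ∈ Φ.range),
      (⟨y, Sh.y_mem⟩ : W) * f s * ⟨y, Sh.y_mem⟩⁻¹ = f ⟨h₀ * s * h₀⁻¹, hm⟩ := by
    rintro ⟨_, ⟨s, a⟩, rfl⟩ hmem
    have he : h₀ * Φ (s, a) * h₀⁻¹ = Φ (conjD c s, a) := by
      have h1 : ((s, a) : SLn 2 F × μ) = (s, 1) * (1, a) := by simp
      have h2 : ((conjD c s, a) : SLn 2 F × μ) = (conjD c s, 1) * (1, a) := by simp
      rw [h1, h2, map_mul, map_mul, ← mul_assoc, mul_assoc _ (Φ (1, a)) h₀⁻¹,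
        ← mem_center_iff.1 (hcen a) h₀⁻¹, ← mul_assoc, hconj]
    simp only [he]
    rw [hf, hf]
    refine Subtype.ext ?_
    show y * (ι s * (χ a : X)) * y⁻¹ = ι (conjD c s) * (χ a : X)
    rw [← Sh.conj, mul_assoc y, mul_assoc (ι s), ← mem_center_iff.1 (P.central (χ a).2) y⁻¹]
    simp only [mul_assoc]
  have hsq' : ∀ hm : h₀ * h₀ ∈ Φ.range,
      (⟨y, Sh.y_mem⟩ : W) * ⟨y, Sh.y_mem⟩ = f ⟨h₀ * h₀, hm⟩ := by
    intro hmem
    simp only [hsq h hh]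
    rw [hf]
    refine Subtype.ext ?_
    show y * y = ι h * (χ μ₀ : X)
    rw [hy2, hχ]
  obtain ⟨π, hπS, hπh⟩ := exists_hom_of_index_two Φ.range hi h₀S f ⟨y, Sh.y_mem⟩ hconj' hsq'
  have hπΦ : ∀ p, π (Φ p) = g p := fun p => (hπS ⟨_, p, rfl⟩).trans (hf p)
  have hker' : ∀ x, π x = 1 → ∃ a ∈ χ.ker, x = Φ (1, a) := by
    intro x hx
    by_cases hxS : x ∈ Φ.range
    · obtain ⟨⟨s, a⟩, rfl⟩ := hxS
      rw [hπΦ] at hx
      have hx' : ι s * (χ a : X) = 1 := congrArg Subtype.val hx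
      have hs : ι s ∈ zc R := by
        rw [eq_inv_of_mul_eq_one_left hx']; exact inv_mem (χ a).2
      rcases sq_one P (H84.QDCent.center_sq ((ι_mem_zc P).1 hs)) with rfl | rfl
      · refine ⟨a, Subtype.ext ?_, rfl⟩
        rwa [map_one, one_mul] at hx'
      · refine ⟨ε * a, Subtype.ext ?_, ?_⟩
        · rw [map_mul, Subgroup.coe_mul, hεt]; exact hx'
        · calc Φ (-1, a) = Φ ((-1, ε) * (1, ε⁻¹ * a)) := by simp
            _ = Φ (1, ε⁻¹ * a) := by rw [map_mul, hε, one_mul]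
            _ = Φ (1, ε * a) := by
              rw [inv_eq_of_mul_eq_one_right (by rw [← pow_two, ← hε2, pow_orderOf_eq_one] : ε * ε = 1)]
    · exfalso
      obtain ⟨⟨s, a⟩, hp⟩ : h₀⁻¹ * x ∈ Φ.range :=
        (mul_mem_iff_of_index_two hi).2 (iff_of_false (by simpa using h₀S) hxS)
      have hx' := congrArg π (mul_inv_cancel_left h₀ x)
      rw [← hp, map_mul, hπh, hπΦ, hx] at hx'
      have hxX : y * (ι s * (χ a : X)) = 1 := congrArg Subtype.val hx'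
      refine Sh.y_not_mem s⁻¹ ((χ a : X))⁻¹ (inv_mem (χ a).2) ?_
      rw [eq_inv_of_mul_eq_one_left hxX, mul_inv_rev, map_inv, ← mem_center_iff.1
        (inv_mem (P.central (χ a).2)) (ι s)⁻¹]
  refine ⟨π, ?_, ?_, ?_, fun s => ?_⟩
  · intro w
    obtain ⟨s, d, hd, hw⟩ := Sh.decomp w w.2
    obtain ⟨a, ha⟩ := hχsurj ⟨d, hd⟩
    have hg : (g (s, a) : X) = ι s * d := by
      show ι s * (χ a : X) = _
      rw [ha]
    rcases hw with hw | hw
    · exact ⟨Φ (s, a), by rw [hπΦ]; exact Subtype.ext (hg.trans hw.symm)⟩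
    · exact ⟨h₀ * Φ (s, a), by
        rw [map_mul, hπh, hπΦ]; exact Subtype.ext (by rw [Subgroup.coe_mul, hg, hw])⟩
  · intro x hx
    obtain ⟨a, -, rfl⟩ := hker' x hx
    exact hcen a
  · let j : χ.ker →* H := (Φ.comp (MonoidHom.inr _ _)).comp χ.ker.subtype
    refine hχker.of_dvd_nat ((Subgroup.card_dvd_of_le (K := j.range) ?_).trans
      (Subgroup.card_range_dvd j))
    intro x hx
    obtain ⟨a, ha, rfl⟩ := hker' x hx
    exact ⟨⟨a, ha⟩, rfl⟩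
  · rw [hπΦ]
    show ι s * (χ 1 : X) = ι s
    rw [map_one, Subgroup.coe_one, mul_one]

end Cfsg.Agent.H57.Order.Local
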