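import Cfsg.Agent.H57.Order.Local
import Cfsg.Agent.H84.SD.Engine
import Mathlib.FieldTheory.Finite.Basic

/-!
# The involutions of the linear part

Besides `ι (-1)` they correspond to the matrices of trace zero with a fixed determinant; these form
one orbit of `SL(2, F)` and are `q (q ± 1)` in number.
-/

set_option autoImplicit false
set_option linter.style.haveILetI false
set_option linter.unusedSectionVars false

namespace Cfsg.Agent.H57.Order.Local

open Subgroup Polynomial
open Cfsg.Agent.H56 (SLn smat)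
open Cfsg.Agent.H5.EvenCyclic (dgl)

universe u

variable {F : Type} [Field F] [Fintype F]

/-- Every element is `x ^ 2 + δ y ^ 2`. -/
theorem exists_norm (hodd : Odd (Fintype.card F)) {δ : F} (hδ : δ ≠ 0) (e : F) :
    ∃ x y : F, x * x + δ * (y * y) = e := by
  classical
  obtain ⟨x, y, h⟩ := FiniteField.exists_root_sum_quadratic
    (f := (X : F[X]) ^ 2 - C e) (g := C δ * (X : F[X]) ^ 2)
    (degree_X_pow_sub_C two_pos e) (degree_C_mul_X_pow 2 hδ)
    (Nat.odd_iff.1 hodd)
  refine ⟨x, y, ?_⟩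
  simp only [eval_sub, eval_pow, eval_X, eval_C, eval_mul] at h
  linear_combination h

theorem exists_conj_companion (hodd : Odd (Fintype.card F)) {δ : F} (hδ : δ ≠ 0)
    (M : Matrix (Fin 2) (Fin 2) F) (htr : M 0 0 + M 1 1 = 0) (hdet : M.det = δ) :
    ∃ r : SLn 2 F, M * smat r = smat r * !![0, -δ; 1, 0] := by
  have h2 := H4.GW.two_ne hodd
  rw [Matrix.det_fin_two] at hdet
  obtain ⟨v₀, v₁, hv⟩ : ∃ v₀ v₁ : F,
      v₀ * (M 1 0 * v₀ + M 1 1 * v₁) - (M 0 0 * v₀ + M 0 1 * v₁) * v₁ ≠ 0 := by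
    by_contra! h
    have h10 := h 1 0
    have h01 := h 0 1
    have h11 := h 1 1
    simp only [mul_one, mul_zero, add_zero, zero_add, sub_zero, one_mul, zero_mul, zero_sub,
      neg_eq_zero] at h10 h01 h11
    have e2 : (2 : F) * M 0 0 = 0 := by linear_combination htr - h11 + h10 - h01
    have e0 : M 0 0 = 0 := (mul_eq_zero.1 e2).resolve_left h2
    exact hδ (by rw [← hdet, e0, h10, h01]; ring)
  set D := v₀ * (M 1 0 * v₀ + M 1 1 * v₁) - (M 0 0 * v₀ + M 0 1 * v₁) * v₁ with hD
  obtain ⟨x, y, hxy⟩ := exists_norm hodd hδ D⁻¹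
  refine ⟨⟨!![v₀, M 0 0 * v₀ + M 0 1 * v₁; v₁, M 1 0 * v₀ + M 1 1 * v₁] * !![x, -δ * y; y, x], ?_⟩, ?_⟩
  · rw [Matrix.det_mul, Matrix.det_fin_two_of, Matrix.det_fin_two_of,
      show x * x - -δ * y * y = D⁻¹ by linear_combination hxy, ← hD, mul_inv_cancel₀ hv]
  · ext i j
    fin_cases i <;> fin_cases j <;> simp [smat, Matrix.mul_apply, Fin.sum_univ_two]
    · linear_combination (y * v₀) * (M 0 0 * htr - hdet) + y * M 0 1 * v₁ * htr
    · linear_combination (x * v₀) * (M 0 0 * htr - hdet) + x * M 0 1 * v₁ * htr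
    · linear_combination (y * v₁) * (M 1 1 * htr - hdet) + y * M 1 0 * v₀ * htr
    · linear_combination (x * v₁) * (M 1 1 * htr - hdet) + x * M 1 0 * v₀ * htr

/-- The matrices of trace zero and determinant `δ`. -/
abbrev Traceless (δ : F) : Type :=
  {M : Matrix (Fin 2) (Fin 2) F // M 0 0 + M 1 1 = 0 ∧ M.det = δ}

theorem Traceless.exists_conj (hodd : Odd (Fintype.card F)) {δ : F} (hδ : δ ≠ 0)
    (M N : Traceless δ) : ∃ r : SLn 2 F, smat r * M.1 * smat r⁻¹ = N.1 := by
  obtain ⟨a, ha⟩ := exists_conj_companion hodd hδ M.1 M.2.1 M.2.2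
  obtain ⟨b, hb⟩ := exists_conj_companion hodd hδ N.1 N.2.1 N.2.2
  have hinv : ∀ s : SLn 2 F, smat s * smat s⁻¹ = 1 ∧ smat s⁻¹ * smat s = 1 := fun s =>
    ⟨congrArg Subtype.val (mul_inv_cancel s), congrArg Subtype.val (inv_mul_cancel s)⟩
  refine ⟨b * a⁻¹, ?_⟩
  show smat b * smat a⁻¹ * M.1 * smat (b * a⁻¹)⁻¹ = N.1
  rw [mul_inv_rev, inv_inv]
  show smat b * smat a⁻¹ * M.1 * (smat a * smat b⁻¹) = N.1
  calc smat b * smat a⁻¹ * M.1 * (smat a * smat b⁻¹)
      = smat b * smat a⁻¹ * (M.1 * smat a) * smat b⁻¹ := by simp only [mul_assoc]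
    _ = N.1 := by
      rw [ha, mul_assoc (smat b), ← mul_assoc (smat a⁻¹), (hinv a).2, one_mul, ← hb, mul_assoc,
        (hinv b).1, mul_one]

open scoped Classical in
theorem Traceless.card (δ : F) :
    Nat.card (Traceless δ) =
      Fintype.card F * ((Fintype.card F - 1) + Nat.card {a : F // a * a = -δ}) := by
  let e : Traceless δ ≃ ({b : F // b ≠ 0} × F) ⊕ ({a : F // a * a = -δ} × F) :=
    { toFun := fun M => if h : M.1 0 1 = 0 then
          Sum.inr (⟨M.1 0 0, by
            have hd := M.2.2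
            rw [Matrix.det_fin_two, h] at hd
            linear_combination M.1 0 0 * M.2.1 - hd⟩, M.1 1 0)
        else Sum.inl (⟨M.1 0 1, h⟩, M.1 0 0)
      invFun := Sum.elim
        (fun p => ⟨!![p.2, p.1.1; -(δ + p.2 * p.2) / p.1.1, -p.2], by simp, by
          rw [Matrix.det_fin_two_of, mul_div_cancel₀ _ p.1.2]; ring⟩)
        (fun p => ⟨!![p.1.1, 0; p.2, -p.1.1], by simp, by
          rw [Matrix.det_fin_two_of]; linear_combination -p.1.2⟩)
      left_inv := fun M => by
        have hd := M.2.2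
        rw [Matrix.det_fin_two] at hd
        have hM : M.1 1 1 = -M.1 0 0 := eq_neg_of_add_eq_zero_right M.2.1
        by_cases h : M.1 0 1 = 0
        · simp only [dif_pos h, Sum.elim_inr]
          refine Subtype.ext ?_
          ext i j
          fin_cases i <;> fin_cases j <;> simp [h, hM]
        · simp only [dif_neg h, Sum.elim_inl]
          refine Subtype.ext ?_
          ext i j
          fin_cases i <;> fin_cases j <;> simp [hM]
          rw [eq_comm, eq_div_iff h]
          linear_combination M.1 0 0 * hM - hd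
      right_inv := fun p => by
        rcases p with ⟨⟨b, hb⟩, a⟩ | ⟨⟨a, ha⟩, c⟩
        · simp [hb]
        · simp }
  haveI : Finite (Traceless δ) := Finite.of_equiv _ e.symm
  rw [Nat.card_congr e, Nat.card_sum, Nat.card_prod, Nat.card_prod,
    show Nat.card {b : F // b ≠ 0} = Fintype.card F - 1 by
      rw [Nat.card_eq_fintype_card, Fintype.card_subtype_compl]; simp,
    Nat.card_eq_fintype_card (α := F)]
  ring

variable {X : Type u} [Group X] [Finite X] {R : Sylow 2 X} {ι : SLn 2 F →* X}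

theorem trace_zero {M : Matrix (Fin 2) (Fin 2) F} {δ : F} (hodd : Odd (Fintype.card F)) (hδ : δ ≠ 0)
    (hd : M.det = δ) (h : M * M = -δ • 1) : M 0 0 + M 1 1 = 0 := by
  have h2 := H4.GW.two_ne hodd
  rw [Matrix.det_fin_two] at hd
  have e00 := congrFun (congrFun h 0) 0
  have e11 := congrFun (congrFun h 1) 1
  simp [Matrix.mul_apply, Fin.sum_univ_two] at e00 e11
  have : (M 0 0 + M 1 1) * (M 0 0 + M 1 1) = 0 := by linear_combination e00 + e11 + 2 * hd
  exact mul_self_eq_zero.1 this

theorem sq_of_trace_zero {M : Matrix (Fin 2) (Fin 2) F} {δ : F} (htr : M 0 0 + M 1 1 = 0)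
    (hd : M.det = δ) : M * M = -δ • 1 := by
  rw [Matrix.det_fin_two] at hd
  ext i j
  fin_cases i <;> fin_cases j <;> simp [Matrix.mul_apply, Fin.sum_univ_two]
  · linear_combination M 0 0 * htr - hd
  · linear_combination M 0 1 * htr
  · linear_combination M 1 0 * htr
  · linear_combination M 1 1 * htr - hd

/-- A parametrisation of the involutions other than `ι (-1)` of the linear part. -/
theorem Shape.exists_param (P : Ctx R ι) {c : Fˣ} {W : Subgroup X} {y z : X}
    (Sh : Shape R ι c W y z) :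
    ∃ (δ : F) (f : Traceless δ → X), δ ≠ 0 ∧
      ((Nat.card (zc R) = 2 ∧ δ = (c : F)) ∨ (Nat.card (zc R) ≠ 2 ∧ δ = 1)) ∧
      Function.Injective f ∧
      (∀ M, f M ∈ W ∧ orderOf (f M) = 2 ∧ f M ≠ ι (-1)) ∧
      (∀ w ∈ W, orderOf w = 2 → w ≠ ι (-1) → ∃ M, f M = w) ∧
      ∀ (r : SLn 2 F) (M N : Traceless δ), smat r * M.1 * smat r⁻¹ = N.1 →
        ι r * f M * (ι r)⁻¹ = f N := by
  classical
  haveI : Fact (Nat.Prime 2) := ⟨Nat.prime_two⟩
  obtain ⟨h, hy2, hh⟩ := Sh.y_sq
  set t := ι (-1) with ht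
  have htZ : t ∈ zc R := (ι_mem_zc P).2 (mem_center_iff.2 fun s => Subtype.ext (by simp))
  have ht2 : t * t = 1 := by rw [ht, ← map_mul, neg_sq P, map_one]
  have ht1 : t ≠ 1 := fun e => neg_ne P (P.inj (by rw [map_one]; exact e))
  have hc : ∀ {d : X}, d ∈ zc R → ∀ g, Commute d g := fun hd g =>
    (mem_center_iff.1 (P.central hd) g).symm
  have hne : ∀ {g : X}, g * g = 1 → g ≠ 1 → orderOf g = 2 := fun h1 h2 =>
    orderOf_eq_prime (by rw [pow_two, h1]) h2
  have hsqι : ∀ {s : SLn 2 F} {d : X}, d ∈ zc R →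
      ι s * d * (ι s * d) = ι (s * s) * (d * d) := fun hd => by
    rw [(hc hd _).mul_mul_mul_comm, ← map_mul]
  have hzero : ∀ {s : SLn 2 F}, ι s ∈ zc R → s = 1 ∨ s = -1 := fun hs =>
    sq_one P (H84.QDCent.center_sq ((ι_mem_zc P).1 hs))
  have hinv : ∀ s : SLn 2 F, smat s * smat s⁻¹ = 1 := fun s => congrArg Subtype.val (mul_inv_cancel s)
  have hz2 : IsPGroup 2 (zc R) := (TwoGroup.isPGroup P.shape).to_subgroup (center (R : Subgroup X))
    |>.of_equiv ((center (R : Subgroup X)).equivMapOfInjective _ (R : Subgroup X).subtype_injective)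
  -- the square of `y ι s`
  have hD : ∀ s : SLn 2 F, y * ι s * (y * ι s) = ι (conjD c s * h * s) * z := fun s => by
    have e1 : y * ι s * (y * ι s) = ι (conjD c s) * (y * y) * ι s := by rw [← Sh.conj]; group
    rw [e1, hy2, map_mul, map_mul, ← mul_assoc, mul_assoc _ z, (hc Sh.z_mem (ι s)).eq, ← mul_assoc]
  have hDmat : ∀ s : SLn 2 F, smat (conjD c s * h * s) = (c : F)⁻¹ •
      ((dgl F c : Matrix (Fin 2) (Fin 2) F) * smat s * ((dgl F c : Matrix _ _ F) * smat s)) := by
    intro s
    show smat (conjD c s) * smat h * smat s = _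
    rw [show smat h = (c : F)⁻¹ • (!![(c : F), 0; 0, 1] * !![(c : F), 0; 0, 1]) from hh,
      ← H5.EvenCyclic.dgl_coe]
    rw [show smat (conjD c s) = (dgl F c : Matrix (Fin 2) (Fin 2) F) * (smat s).map (RingEquiv.refl F) *
      ((dgl F c)⁻¹ : GL (Fin 2) F) from rfl]
    simp only [RingEquiv.coe_refl, Matrix.map_id, Matrix.mul_smul, Matrix.smul_mul]
    have e : ((dgl F c)⁻¹ : GL (Fin 2) F).val * (dgl F c : Matrix (Fin 2) (Fin 2) F) = 1 := by
      rw [← Units.val_mul, inv_mul_cancel, Units.val_one]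
    congr 1
    set D := (dgl F c : Matrix (Fin 2) (Fin 2) F)
    set D' := ((dgl F c)⁻¹ : GL (Fin 2) F).val
    calc D * smat s * D' * (D * D) * smat s = D * smat s * ((D' * D) * (D * smat s)) := by
          simp only [mul_assoc]
      _ = D * smat s * (D * smat s) := by rw [e, one_mul]
  have hdetD : ∀ s : SLn 2 F, ((dgl F c : Matrix (Fin 2) (Fin 2) F) * smat s).det = (c : F) := fun s => by
    rw [Matrix.det_mul, show (smat s).det = 1 from s.2, mul_one, H5.EvenCyclic.dgl_coe,
      Matrix.det_fin_two_of]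
    ring
  by_cases h2 : Nat.card (zc R) = 2
  · -- the involutions `y ι s`
    have hZ : ∀ d ∈ zc R, d = 1 ∨ d = t := fun d hd => by
      by_contra! hne'
      haveI : Fintype (zc R) := Fintype.ofFinite _
      have := Fintype.two_lt_card_iff (α := zc R) |>.2 ⟨⟨d, hd⟩, 1, ⟨t, htZ⟩,
        fun e => hne'.1 (congrArg Subtype.val e), fun e => hne'.2 (congrArg Subtype.val e),
        fun e => ht1 (congrArg Subtype.val e).symm⟩
      rw [← Nat.card_eq_fintype_card, h2] at this
      omega
    have hzt : z = t := (hZ z Sh.z_mem).resolve_left fun e => ht1 (by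
      obtain ⟨k, hk⟩ := Sh.z_gen t htZ
      simpa [e] using hk.symm)
    have hsM : ∀ M : Traceless (c : F),
        (((dgl F c)⁻¹ : GL (Fin 2) F).val * M.1).det = 1 := fun M => by
      have e : ((dgl F c)⁻¹ : GL (Fin 2) F).val.det * (c : F) = 1 := by
        have := congrArg Matrix.det (show ((dgl F c)⁻¹ : GL (Fin 2) F).val *
          (dgl F c : Matrix (Fin 2) (Fin 2) F) = 1 by rw [← Units.val_mul, inv_mul_cancel, Units.val_one])
        rwa [Matrix.det_mul, H5.EvenCyclic.dgl_coe, Matrix.det_fin_two_of, Matrix.det_one, mul_one,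
          mul_zero, sub_zero] at this
      rw [Matrix.det_mul, M.2.2, e]
    let σ : Traceless (c : F) → SLn 2 F := fun M => ⟨_, hsM M⟩
    have hσ : ∀ M, (dgl F c : Matrix (Fin 2) (Fin 2) F) * smat (σ M) = M.1 := fun M => by
      show (dgl F c : Matrix (Fin 2) (Fin 2) F) * (((dgl F c)⁻¹ : GL (Fin 2) F).val * M.1) = M.1
      rw [← mul_assoc, ← Units.val_mul, mul_inv_cancel, Units.val_one, one_mul]
    refine ⟨c, fun M => y * ι (σ M), c.ne_zero, Or.inl ⟨h2, rfl⟩, fun M N e => ?_, fun M => ⟨?_, ?_, ?_⟩,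
      fun w hw how hwt => ?_, fun r M N e => ?_⟩
    · refine Subtype.ext ?_
      rw [← hσ M, ← hσ N, P.inj (mul_left_cancel e)]
    · exact mul_mem Sh.y_mem (Sh.range_le ⟨_, rfl⟩)
    · refine hne ?_ fun e => Sh.y_not_mem (σ M)⁻¹ 1 (one_mem _) (by
        rw [mul_one, map_inv]; exact eq_inv_of_mul_eq_one_left e)
      rw [hD, hzt, ht, ← map_mul, ← map_one ι]
      refine congrArg ι (Subtype.ext ?_)
      show smat (conjD c (σ M) * h * σ M) * smat (-1) = 1
      rw [hDmat, hσ, sq_of_trace_zero M.2.1 M.2.2, smul_smul, mul_neg, inv_mul_cancel₀ c.ne_zero]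
      simp [smat]
    · intro e
      refine Sh.y_not_mem (-(σ M)⁻¹) 1 (one_mem _) ?_
      rw [mul_one, show -(σ M)⁻¹ = -1 * (σ M)⁻¹ from Subtype.ext (by simp), map_mul, map_inv, ← ht]
      exact eq_mul_inv_of_mul_eq e
    · have hw2 : w * w = 1 := by rw [← pow_two, ← how, pow_orderOf_eq_one]
      obtain ⟨s, d, hd, hws⟩ := Sh.decomp w hw
      have habs : ∀ s, ∀ d ∈ zc R, ∃ s', ι s * d = ι s' := fun s d hd => by
        rcases hZ d hd with rfl | rfl
        · exact ⟨s, mul_one _⟩
        · exact ⟨s * -1, by rw [map_mul]⟩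
      obtain ⟨s', hs'⟩ := habs s d hd
      rw [hs'] at hws
      rcases hws with rfl | rfl
      · exfalso
        rw [← map_mul, ← map_one ι] at hw2
        rcases sq_one P (P.inj hw2) with rfl | rfl
        · rw [map_one, orderOf_one] at how; omega
        · exact hwt rfl
      · rw [hD, hzt, ht, ← map_mul, ← map_one ι] at hw2
        have hm := congrArg smat (P.inj hw2)
        have hm' : smat (conjD c s' * h * s') * smat (-1) = 1 := hm
        rw [hDmat] at hm'
        have hsq : (dgl F c : Matrix (Fin 2) (Fin 2) F) * smat s' *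
            ((dgl F c : Matrix (Fin 2) (Fin 2) F) * smat s') = -(c : F) • 1 := by
          set A := (dgl F c : Matrix (Fin 2) (Fin 2) F) * smat s' *
            ((dgl F c : Matrix (Fin 2) (Fin 2) F) * smat s')
          rw [show smat (-1 : SLn 2 F) = -1 by simp [smat], Matrix.smul_mul, mul_neg, mul_one] at hm'
          calc A = -(c : F) • ((c : F)⁻¹ • -A) := by
                rw [smul_smul, neg_mul, mul_inv_cancel₀ c.ne_zero]; simp
            _ = -(c : F) • 1 := by rw [hm']
        refine ⟨⟨_, trace_zero P.odd c.ne_zero (hdetD s') hsq, hdetD s'⟩, ?_⟩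
        refine congrArg (fun s => y * ι s) (Subtype.ext ?_)
        show ((dgl F c)⁻¹ : GL (Fin 2) F).val * ((dgl F c : Matrix (Fin 2) (Fin 2) F) * smat s') = _
        rw [← mul_assoc, ← Units.val_mul, inv_mul_cancel, Units.val_one, one_mul]
    · show ι r * (y * ι (σ M)) * (ι r)⁻¹ = y * ι (σ N)
      have e1 : ι r * y = y * ι ((conjD c).symm r) := by
        have := Sh.conj ((conjD c).symm r)
        rw [MulEquiv.apply_symm_apply] at this
        rw [← this]; group
      rw [← mul_assoc, e1, mul_assoc y, ← map_mul, mul_assoc y, ← map_inv, ← map_mul]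
      refine congrArg (fun s => y * ι s) (Subtype.ext ?_)
      show smat ((conjD c).symm r) * smat (σ M) * smat r⁻¹ = ((dgl F c)⁻¹ : GL (Fin 2) F).val * N.1
      rw [← e, ← hσ M]
      have hr : smat ((conjD c).symm r) =
          ((dgl F c)⁻¹ : GL (Fin 2) F).val * smat r * (dgl F c : Matrix (Fin 2) (Fin 2) F) := by
        set r' := (conjD c).symm r
        have hr' : smat r = (dgl F c : Matrix (Fin 2) (Fin 2) F) * smat r' *
            ((dgl F c)⁻¹ : GL (Fin 2) F).val := by
          rw [show r = conjD c r' from ((conjD c).apply_symm_apply r).symm]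
          show smat (conjD c r') = _
          rw [show smat (conjD c r') = (dgl F c : Matrix (Fin 2) (Fin 2) F) *
            (smat r').map (RingEquiv.refl F) * ((dgl F c)⁻¹ : GL (Fin 2) F) from rfl]
          simp
        have e' : ((dgl F c)⁻¹ : GL (Fin 2) F).val * (dgl F c : Matrix (Fin 2) (Fin 2) F) = 1 := by
          rw [← Units.val_mul, inv_mul_cancel, Units.val_one]
        set D := (dgl F c : Matrix (Fin 2) (Fin 2) F)
        set D' := ((dgl F c)⁻¹ : GL (Fin 2) F).val
        rw [hr', show D' * (D * smat r' * D') * D = (D' * D) * smat r' * (D' * D) by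
          simp only [mul_assoc], e', one_mul, mul_one]
      rw [hr]
      simp only [mul_assoc]
  · -- the involutions `ι s d₀` with `d₀ ^ 2 = t`
    obtain ⟨d₀, hd₀, hd₀2⟩ : ∃ d ∈ zc R, d * d = t := by
      obtain ⟨e, he⟩ := IsPGroup.iff_card.1 hz2
      have hgen : ∀ d : zc R, d ∈ zpowers (⟨z, Sh.z_mem⟩ : zc R) := fun d => by
        obtain ⟨k, hk⟩ := Sh.z_gen _ d.2
        exact ⟨k, Subtype.ext hk⟩
      have hord : orderOf z = 2 ^ e := by
        rw [← he, ← orderOf_eq_card_of_forall_mem_zpowers hgen, Subgroup.orderOf_mk]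
      have he0 : e ≠ 0 := fun h0 => by
        rw [h0, pow_zero, orderOf_eq_one_iff] at hord
        obtain ⟨k, hk⟩ := Sh.z_gen t htZ
        exact ht1 (by simpa [hord] using hk.symm)
      have he1 : e ≠ 1 := fun h1 => h2 (by rw [he, h1, pow_one])
      refine ⟨z ^ 2 ^ (e - 2), pow_mem Sh.z_mem _, ?_⟩
      haveI := Fintype.ofFinite X
      have hb : orderOf (z ^ 2 ^ (e - 1)) = 2 := by
        rw [orderOf_pow_of_dvd (pow_ne_zero _ two_ne_zero)
          (by rw [hord]; exact pow_dvd_pow 2 (by omega)), hord, Nat.pow_div (by omega) (by norm_num),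
          show e - (e - 1) = 1 by omega, pow_one]
      rw [← pow_add, ← two_mul, ← pow_succ', show e - 2 + 1 = e - 1 by omega]
      exact H84.SD.eq_of_mem_zpowers (pow_mem (mem_zpowers z) _) (Sh.z_gen t htZ)
        (by rw [← pow_two]; exact orderOf_dvd_iff_pow_eq_one.1 hb.dvd) ht2
        (fun h' => by rw [h', orderOf_one] at hb; omega) ht1
    have hneg : ∀ s : SLn 2 F, s * s = -1 → smat s * smat s = -(1 : F) • 1 := fun s hs => by
      rw [show smat s * smat s = smat (-1 : SLn 2 F) from congrArg smat hs]; simp [smat]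
    refine ⟨1, fun M => ι (⟨M.1, M.2.2⟩ : SLn 2 F) * d₀, one_ne_zero, Or.inr ⟨h2, rfl⟩,
      fun M N e => ?_, fun M => ⟨?_, ?_, ?_⟩, fun w hw how hwt => ?_, fun r M N e => ?_⟩
    · exact Subtype.ext (congrArg smat (P.inj (mul_right_cancel e)))
    · exact mul_mem (Sh.range_le ⟨_, rfl⟩) (Sh.zc_le hd₀)
    · refine hne ?_ fun e => ?_
      · show ι (⟨M.1, M.2.2⟩ : SLn 2 F) * d₀ * (ι (⟨M.1, M.2.2⟩ : SLn 2 F) * d₀) = 1
        refine (hsqι hd₀).trans ?_
        rw [hd₀2, ht, ← map_mul, ← map_one ι]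
        refine congrArg ι (Subtype.ext ?_)
        show M.1 * M.1 * smat (-1) = 1
        rw [sq_of_trace_zero M.2.1 M.2.2]; simp [smat]
      · have hs : ι (⟨M.1, M.2.2⟩ : SLn 2 F) ∈ zc R := by
          rw [eq_inv_of_mul_eq_one_left e]; exact inv_mem hd₀
        have htr := M.2.1
        rcases hzero hs with h' | h' <;>
        · have h00 := congrArg (fun s : SLn 2 F => smat s 0 0 + smat s 1 1) h'
          simp [smat, htr] at h00
          exact H4.GW.two_ne P.odd (by first | linear_combination h00 | linear_combination -h00)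
    · intro e
      have hs : ι (⟨M.1, M.2.2⟩ : SLn 2 F) ∈ zc R := by
        rw [eq_mul_inv_of_mul_eq e]; exact mul_mem htZ (inv_mem hd₀)
      have htr := M.2.1
      rcases hzero hs with h' | h' <;>
      · have h00 := congrArg (fun s : SLn 2 F => smat s 0 0 + smat s 1 1) h'
        simp [smat, htr] at h00
        exact H4.GW.two_ne P.odd (by first | linear_combination h00 | linear_combination -h00)
    · have hw2 : w * w = 1 := by rw [← pow_two, ← how, pow_orderOf_eq_one]
      obtain ⟨s, d, hd, hws⟩ := Sh.decomp w hw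
      rcases hws with rfl | rfl
      · rw [hsqι hd] at hw2
        have hmem : ι (s * s) ∈ zc R := by
          rw [eq_inv_of_mul_eq_one_left hw2]; exact inv_mem (mul_mem hd hd)
        rcases hzero hmem with hs | hs
        · exfalso
          rw [hs, map_one, one_mul] at hw2
          rcases sq_one P hs with rfl | rfl
          · rw [map_one, one_mul] at how hwt
            haveI := Fintype.ofFinite X
            refine hwt (H84.SD.eq_of_mem_zpowers (Sh.z_gen d hd) (Sh.z_gen t htZ) hw2 ht2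
              (fun e => ?_) ht1)
            rw [e, orderOf_one] at how; omega
          · by_cases hd1 : d = 1
            · exact hwt (by rw [hd1, mul_one])
            · haveI := Fintype.ofFinite X
              have hdt : d = t := H84.SD.eq_of_mem_zpowers (Sh.z_gen d hd) (Sh.z_gen t htZ) hw2 ht2 hd1 ht1
              rw [hdt, ← ht, ht2, orderOf_one] at how; omega
        · rw [hs, ← ht] at hw2
          have hq : d * d₀⁻¹ * (d * d₀⁻¹) = 1 := by
            rw [(hc (inv_mem hd₀) d).mul_mul_mul_comm, ← mul_inv_rev, hd₀2, inv_eq_of_mul_eq_one_right ht2,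
              ← hw2, (hc htZ (d * d)).eq]
          obtain ⟨s', hs', hws'⟩ : ∃ s', s' * s' = -1 ∧ ι s * d = ι s' * d₀ := by
            by_cases h1 : d * d₀⁻¹ = 1
            · exact ⟨s, hs, by rw [mul_inv_eq_one.1 h1]⟩
            · haveI := Fintype.ofFinite X
              have h3 : d * d₀⁻¹ = t := H84.SD.eq_of_mem_zpowers
                (Sh.z_gen _ (mul_mem hd (inv_mem hd₀))) (Sh.z_gen t htZ) hq ht2 h1 ht1
              refine ⟨s * -1, ?_, ?_⟩
              · rw [show (s * -1) * (s * -1) = s * s * (-1 * -1) from Subtype.ext (by simp), neg_sq P,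
                  mul_one, hs]
              · rw [map_mul, ← ht, mul_assoc, ← h3, inv_mul_cancel_right]
          exact ⟨⟨smat s', trace_zero P.odd one_ne_zero s'.2 (hneg s' hs'), s'.2⟩, hws'.symm⟩
      · exfalso
        have hw3 : ι (conjD c s * h * s) * z * (d * d) = 1 := by
          rw [← hD, ← hw2, ← mul_assoc y, (hc hd _).mul_mul_mul_comm]
        have hmem : ι (conjD c s * h * s) ∈ zc R := by
          rw [mul_assoc] at hw3
          rw [eq_inv_of_mul_eq_one_left hw3]; exact inv_mem (mul_mem Sh.z_mem (mul_mem hd hd))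
        obtain ⟨e, he, hze⟩ : ∃ e ∈ zc R, z = e * e := by
          rcases hzero hmem with hs | hs
          · rw [hs, map_one, one_mul] at hw3
            exact ⟨d⁻¹, inv_mem hd, by rw [← mul_inv_rev]; exact eq_inv_of_mul_eq_one_left hw3⟩
          · rw [hs, ← ht, mul_assoc] at hw3
            refine ⟨d₀ * d⁻¹, mul_mem hd₀ (inv_mem hd), ?_⟩
            have hz' : z * (d * d) = t := by
              rw [← inv_eq_of_mul_eq_one_right ht2]; exact (inv_eq_of_mul_eq_one_right hw3).symm
            rw [(hc (inv_mem hd) d₀).mul_mul_mul_comm, hd₀2, ← mul_inv_rev, ← hz', mul_inv_cancel_right]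
        obtain ⟨k, hk⟩ := Sh.z_gen e he
        have h1 : z ^ (k + k - 1) = 1 := by
          rw [zpow_sub_one, zpow_add, show z ^ k = e from hk, ← hze, mul_inv_cancel]
        have hdvd := orderOf_dvd_iff_zpow_eq_one.2 h1
        obtain ⟨j, hj⟩ := IsPGroup.iff_orderOf.1 hz2 ⟨z, Sh.z_mem⟩
        rw [Subgroup.orderOf_mk] at hj
        rw [hj] at hdvd
        rcases Nat.eq_zero_or_pos j with rfl | hj0
        · rw [pow_zero, orderOf_eq_one_iff] at hj
          obtain ⟨k', hk'⟩ := Sh.z_gen t htZ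
          exact ht1 (by simpa [hj] using hk'.symm)
        · have h2d : (2 : ℤ) ∣ k + k - 1 :=
            (show (2 : ℤ) ∣ ((2 ^ j : ℕ) : ℤ) by exact_mod_cast dvd_pow_self 2 hj0.ne').trans hdvd
          omega
    · show ι r * (ι (⟨M.1, M.2.2⟩ : SLn 2 F) * d₀) * (ι r)⁻¹ = ι (⟨N.1, N.2.2⟩ : SLn 2 F) * d₀
      rw [← mul_assoc, mul_assoc _ d₀, (hc hd₀ _).eq, ← mul_assoc, ← map_inv]
      refine congrArg (· * d₀) (((congrArg (· * ι r⁻¹) (map_mul ι _ _).symm).trans (map_mul ι _ _).symm).trans ?_)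
      exact congrArg ι (Subtype.ext e)

/-- The involutions other than `ι (-1)` of the linear part are conjugate there. -/
theorem Shape.isConj_invol (P : Ctx R ι) {c : Fˣ} {W : Subgroup X} {y z : X}
    (Sh : Shape R ι c W y z) {a b : W} (ha : orderOf a = 2) (ha' : (a : X) ≠ ι (-1))
    (hb : orderOf b = 2) (hb' : (b : X) ≠ ι (-1)) : IsConj a b := by
  obtain ⟨δ, f, hδ, -, -, -, hsurj, heq⟩ := Sh.exists_param P
  rw [← Subgroup.orderOf_coe] at ha hb
  obtain ⟨M, hM⟩ := hsurj a a.2 ha ha'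
  obtain ⟨N, hN⟩ := hsurj b b.2 hb hb'
  obtain ⟨r, hr⟩ := Traceless.exists_conj P.odd hδ M N
  exact isConj_iff.2 ⟨⟨ι r, Sh.range_le ⟨r, rfl⟩⟩, Subtype.ext (by
    show ι r * a * (ι r)⁻¹ = b
    rw [← hM, ← hN]; exact heq r M N hr)⟩

/-- Their number. -/
theorem Shape.card_invol (P : Ctx R ι) {c : Fˣ} (hc : ¬ IsSquare (c : F)) {W : Subgroup X} {y z : X}
    (Sh : Shape R ι c W y z) :
    (Nat.card {w : W // orderOf w = 2 ∧ (w : X) ≠ ι (-1)} : ℤ) =
      (Fintype.card F : ℤ) * ((Fintype.card F : ℤ) +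
        if (Nat.card (zc R) = 2 ↔ Fintype.card F % 4 = 3) then 1 else -1) := by
  classical
  obtain ⟨δ, f, hδ, hcase, hinj, hmem, hsurj, -⟩ := Sh.exists_param P
  let e : Traceless δ ≃ {w : W // orderOf w = 2 ∧ (w : X) ≠ ι (-1)} :=
    Equiv.ofBijective (fun M => ⟨⟨f M, (hmem M).1⟩,
      (Subgroup.orderOf_mk (f M) (hmem M).1).trans (hmem M).2.1, (hmem M).2.2⟩)
      ⟨fun M N e => hinj (congrArg (fun w : {w : W // _} => ((w.1 : W) : X)) e), fun w => by
        obtain ⟨M, hM⟩ := hsurj (w.1 : X) w.1.2 (by rw [Subgroup.orderOf_coe]; exact w.2.1) w.2.2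
        exact ⟨M, Subtype.ext (Subtype.ext hM)⟩⟩
  have hroots : Nat.card {a : F // a * a = -δ} = if IsSquare (-δ) then 2 else 0 := by
    split_ifs with hsq
    · obtain ⟨a, ha⟩ := hsq
      have ha0 : a ≠ 0 := fun h0 => hδ (by rw [← neg_eq_zero, ha, h0, mul_zero])
      have hne : a ≠ -a := fun h0 => ha0 (by
        have : (2 : F) * a = 0 := by linear_combination h0
        exact (mul_eq_zero.1 this).resolve_left (H4.GW.two_ne P.odd))
      rw [Nat.card_eq_fintype_card, Fintype.card_subtype, Finset.card_eq_two]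
      refine ⟨a, -a, hne, ?_⟩
      ext x
      simp [ha, mul_self_eq_mul_self_iff]
    · rw [Nat.card_eq_zero]; left
      exact ⟨fun a => hsq ⟨a.1, a.2.symm⟩⟩
  have hm1 : IsSquare (-1 : F) ↔ Fintype.card F % 4 ≠ 3 := FiniteField.isSquare_neg_one_iff
  have hneg : IsSquare (-δ) ↔ (Nat.card (zc R) = 2 ↔ Fintype.card F % 4 = 3) := by
    rcases hcase with ⟨h2, rfl⟩ | ⟨h2, rfl⟩
    · simp only [h2, true_iff]
      constructor
      · intro hs
        by_contra h3
        refine hc ?_
        simpa using (hm1.2 h3).mul hs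
      · intro h3
        have hm : ¬ IsSquare ((-1 : Fˣ) : F) := by
          rw [Units.val_neg, Units.val_one]; exact fun h => hm1.1 h h3
        obtain ⟨b, hb⟩ := H5.EvenCyclic.exists_sq_of_not_sq P.odd hm hc
        exact ⟨b, by simpa using congrArg Units.val hb⟩
    · simp [h2, hm1]
  rw [← Nat.card_congr e, Traceless.card, hroots]
  have hq : 1 ≤ Fintype.card F := Fintype.card_pos
  by_cases hs : IsSquare (-δ)
  · rw [if_pos hs, if_pos (hneg.1 hs)]; push_cast [hq]; ring
  · rw [if_neg hs, if_neg (mt hneg.2 hs)]; push_cast [hq]; ring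

end Cfsg.Agent.H57.Order.Local
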