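import Cfsg.Agent.H57.Order.Blocks
import Cfsg.Agent.S4551
import Cfsg.Agent.H84.SD.Engine

/-!
# Transfer from a model group to a group with odd core and odd automorphisms

`C` has a normal subgroup `C0` of odd index with `C = C0 C(P)`, `C0` maps onto `Y` with odd kernel, and
so does the model `H`.  Restriction is a bijection of principal 2-blocks, so functions of the principal
span of `H` supported on the section of the involution lift uniquely to `C`.
-/

set_option autoImplicit false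
set_option linter.style.haveILetI false
set_option linter.unusedSectionVars false

namespace Cfsg.Agent.H57.Order

open Cfsg Cfsg.Agent.CharBasic Cfsg.Agent.BlockBasic Subgroup
open scoped ComplexConjugate

universe u v w

section special

variable {X : Type u} {Y : Type v} [Group X] [Finite X] [Group Y]

/-- Along an odd kernel having a central involution as a power is detected in the image. -/
theorem mem_zpowers_of_map {f : X →* Y} (hodd : Odd (Nat.card f.ker)) {t x : X} (ht : t * t = 1)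
    (htc : t ∈ center X) (h : f t ∈ zpowers (f x)) : t ∈ zpowers x := by
  obtain ⟨k, hk⟩ := mem_zpowers_iff.1 h
  have hker : t⁻¹ * x ^ k ∈ f.ker := by
    rw [MonoidHom.mem_ker, map_mul, map_inv, map_zpow, hk, inv_mul_cancel]
  obtain ⟨m, hm⟩ := hodd
  refine ⟨k * (2 * m + 1 : ℕ), ?_⟩
  show x ^ (k * ((2 * m + 1 : ℕ) : ℤ)) = t
  have hpow : (t⁻¹ * x ^ k) ^ (2 * m + 1) = 1 := by
    rw [← hm]; exact congrArg Subtype.val (pow_card_eq_one' (x := (⟨_, hker⟩ : f.ker)))
  have htt : t⁻¹ = t := inv_eq_of_mul_eq_one_right ht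
  have hc : Commute t (x ^ k) := (Subgroup.mem_center_iff.1 htc (x ^ k)).symm
  rw [htt, hc.mul_pow, show t ^ (2 * m + 1) = t by rw [pow_succ, pow_mul, pow_two, ht, one_pow, one_mul]]
    at hpow
  rw [_root_.zpow_mul, zpow_natCast, eq_inv_of_mul_eq_one_right hpow, htt]

/-- Having a central involution as a power only depends on the 2-part. -/
theorem mem_zpowers_pPart_iff [Fact (Nat.Prime 2)] {t x : X} (ht : orderOf t = 2) :
    t ∈ zpowers x ↔ t ∈ zpowers (pPart (p := 2) x) := by
  set a := pPart (p := 2) x with ha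
  have ht2 : t * t = 1 := by rw [← pow_two, ← ht, pow_orderOf_eq_one]
  have ht1 : t ≠ 1 := fun h => by rw [h, orderOf_one] at ht; exact absurd ht (by norm_num)
  obtain ⟨e, he⟩ := exists_orderOf_pPart (p := 2) x
  have hax : a ∈ zpowers x := by
    obtain ⟨v, m, hm, hvm⟩ := Nat.exists_eq_pow_mul_and_not_dvd (orderOf_pos x).ne' 2 (by norm_num)
    obtain ⟨k, l, hk1, hk2, hl1, hl2⟩ := exists_pPart_exponent Nat.prime_two v m hm
    have hco : Nat.Coprime (2 ^ v) m := ((Nat.prime_two.coprime_iff_not_dvd).2 hm).pow_left v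
    have hkl : x ^ k * x ^ l = x := by
      rw [← pow_add]
      conv_rhs => rw [← pow_one x]
      rw [pow_eq_pow_iff_modEq, hvm]
      exact (Nat.modEq_and_modEq_iff_modEq_mul hco).1
        ⟨by simpa using hk1.add hl1, by simpa using hk2.add hl2⟩
    have hak : a = x ^ k := by
      conv_lhs => rw [ha, ← hkl]
      refine pPart_mul_of ((Commute.refl x).pow_pow k l) ?_ ?_
      · obtain ⟨j, -, hj⟩ := (Nat.dvd_prime_pow Nat.prime_two).1 (orderOf_dvd_of_pow_eq_one
          (show (x ^ k) ^ (2 ^ v) = 1 by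
            rw [← pow_mul, ← orderOf_dvd_iff_pow_eq_one, hvm, mul_comm k]
            exact Nat.mul_dvd_mul_left _ (Nat.modEq_zero_iff_dvd.1 hk2)))
        exact ⟨j, hj⟩
      · intro h
        refine hm (h.trans (orderOf_dvd_of_pow_eq_one ?_))
        rw [← pow_mul, ← orderOf_dvd_iff_pow_eq_one, hvm]
        exact Nat.mul_dvd_mul_right (Nat.modEq_zero_iff_dvd.1 hl1) _
    rw [hak]; exact pow_mem (mem_zpowers x) k
  refine ⟨fun h => ?_, fun h => (zpowers_le.2 hax) h⟩
  rcases Nat.eq_zero_or_pos e with rfl | he0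
  · exfalso
    rw [pow_zero, orderOf_eq_one_iff, pPart_eq_one_iff] at he
    obtain ⟨k, hk⟩ := mem_zpowers_iff.1 h
    have hd : orderOf t ∣ orderOf x :=
      Subgroup.orderOf_dvd_natCard _ h |>.trans (dvd_of_eq (Nat.card_zpowers x))
    rw [ht] at hd
    exact he hd
  · have hb : orderOf (a ^ 2 ^ (e - 1)) = 2 := by
      rw [orderOf_pow_of_dvd (pow_ne_zero _ two_ne_zero)
        (by rw [he]; exact pow_dvd_pow 2 (by omega)), he, Nat.pow_div (by omega) (by norm_num)]
      rw [show e - (e - 1) = 1 by omega, pow_one]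
    haveI : Fintype X := Fintype.ofFinite X
    have heq : t = a ^ 2 ^ (e - 1) := H84.SD.eq_of_mem_zpowers h (pow_mem hax _) ht2
      (by rw [← pow_two]; exact orderOf_dvd_iff_pow_eq_one.1 hb.dvd) ht1
      (fun h' => by rw [h', orderOf_one] at hb; exact absurd hb (by norm_num))
    rw [heq]; exact pow_mem (mem_zpowers a) _

theorem special_iff_of_isConj [Fact (Nat.Prime 2)] {t x y : X} (ht : orderOf t = 2)
    (htc : t ∈ center X) (h : IsConj (pPart (p := 2) x) (pPart (p := 2) y)) :
    t ∈ zpowers x ↔ t ∈ zpowers y := by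
  rw [mem_zpowers_pPart_iff ht, mem_zpowers_pPart_iff ht (x := y)]
  obtain ⟨c, hc⟩ := isConj_iff.1 h
  have hct : c * t * c⁻¹ = t := by rw [Subgroup.mem_center_iff.1 htc c, mul_inv_cancel_right]
  rw [← hc]
  constructor
  · rintro ⟨k, hk⟩
    refine ⟨k, ?_⟩
    show (c * pPart (p := 2) x * c⁻¹) ^ k = t
    rw [conj_zpow, show pPart (p := 2) x ^ k = t from hk, hct]
  · rintro ⟨k, hk⟩
    refine ⟨k, ?_⟩
    show pPart (p := 2) x ^ k = t
    have : c * pPart (p := 2) x ^ k * c⁻¹ = c * t * c⁻¹ := by rw [← conj_zpow, hct]; exact hk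
    exact mul_left_cancel (mul_right_cancel this)

end special

/-- The setting of the transfer. -/
structure Setup {C : Type u} [Group C] [Finite C] {Y : Type v} [Group Y] [Finite Y] {H : Type w}
    [Group H] [Finite H] (M : Ideal AlgInt) (C0 : Subgroup C) (ρ : C0 →* Y) (π : H →* Y) (t : C)
    (e : H) : Prop where
  hM : IsPModular 2 M
  normal : C0.Normal
  index : ¬ 2 ∣ C0.index
  sup : ∃ P : Sylow 2 C, C0 ⊔ centralizer ((P : Subgroup C) : Set C) = ⊤
  ρ_surj : Function.Surjective ρ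
  ρ_odd : Odd (Nat.card ρ.ker)
  π_surj : Function.Surjective π
  π_odd : Odd (Nat.card π.ker)
  t_order : orderOf t = 2
  t_center : t ∈ center C
  e_order : orderOf e = 2
  e_center : e ∈ center H
  t_mem : t ∈ C0
  compat : ρ ⟨t, t_mem⟩ = π e

variable {C : Type u} [Group C] [Fintype C] {Y : Type v} [Group Y] [Fintype Y] {H : Type w} [Group H]
  [Fintype H] {M : Ideal AlgInt} {C0 : Subgroup C} {ρ : C0 →* Y} {π : H →* Y} {t : C} {e : H}

/-- A lift to the model. -/
noncomputable def Setup.sec (S : Setup M C0 ρ π t e) (x : C0) : H := (S.π_surj (ρ x)).choose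

theorem Setup.π_sec (S : Setup M C0 ρ π t e) (x : C0) : π (S.sec x) = ρ x :=
  (S.π_surj (ρ x)).choose_spec

variable (S : Setup M C0 ρ π t e)
include S

theorem Setup.apply_eq {θ : IrrCharacter H} (hθ : θ ∈ principalBlock M H) {g h : H}
    (hgh : π g = π h) : (θ : H → ℂ) g = (θ : H → ℂ) h := by
  obtain ⟨η, -, rfl⟩ := exists_compIrr_eq S.hM π S.π_surj S.π_odd hθ
  exact congrArg (η : Y → ℂ) hgh

theorem Setup.inB0_apply_eq {f : H → ℂ} (hf : InB0 M f) {g h : H} (hgh : π g = π h) : f g = f h := by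
  classical
  rw [hf.expansion g, hf.expansion h]
  refine Finset.sum_congr rfl fun θ hθ => ?_
  rw [S.apply_eq (Finset.mem_filter.1 hθ).2 hgh]

theorem Setup.exists_lift_of (h : H) : ∃ x : C0, π (S.sec x) = π h := by
  obtain ⟨x, hx⟩ := S.ρ_surj (π h)
  exact ⟨x, (S.π_sec x).trans hx⟩

theorem Setup.exists_res {ψ : IrrCharacter C} (hψ : ψ ∈ principalBlock M C) :
    ∃ θ ∈ principalBlock M H, ∀ x : C0, (θ : H → ℂ) (S.sec x) = (ψ : C → ℂ) x := by
  haveI := S.normal
  haveI : Fintype C0 := Fintype.ofFinite _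
  haveI : Fact (Nat.Prime 2) := ⟨Nat.prime_two⟩
  obtain ⟨P, hP⟩ := S.sup
  obtain ⟨ψ₀, hψ₀, h₀⟩ := (S4551.result 2 M S.hM C0 S.index P hP).1 ψ hψ
  obtain ⟨η, hη, rfl⟩ := exists_compIrr_eq S.hM ρ S.ρ_surj S.ρ_odd hψ₀
  refine ⟨compIrr π S.π_surj η, (compIrr_mem_principal_iff S.hM π S.π_surj S.π_odd η).2 hη,
    fun x => ?_⟩
  rw [h₀ x]
  exact congrArg (η : Y → ℂ) (S.π_sec x)

open scoped Classical in
/-- Restriction to the model. -/
noncomputable def Setup.res (ψ : IrrCharacter C) : IrrCharacter H :=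
  if h : ψ ∈ principalBlock M C then (S.exists_res h).choose else trivialIrr

theorem Setup.res_mem {ψ : IrrCharacter C} (hψ : ψ ∈ principalBlock M C) :
    S.res ψ ∈ principalBlock M H := by
  rw [Setup.res, dif_pos hψ]; exact (S.exists_res hψ).choose_spec.1

theorem Setup.res_apply {ψ : IrrCharacter C} (hψ : ψ ∈ principalBlock M C) (x : C0) :
    (S.res ψ : H → ℂ) (S.sec x) = (ψ : C → ℂ) x := by
  rw [Setup.res, dif_pos hψ]; exact (S.exists_res hψ).choose_spec.2 x

theorem Setup.eq_of_sec {θ θ' : IrrCharacter H} (hθ : θ ∈ principalBlock M H)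
    (hθ' : θ' ∈ principalBlock M H)
    (h : ∀ x : C0, (θ : H → ℂ) (S.sec x) = (θ' : H → ℂ) (S.sec x)) : θ = θ' := by
  refine Subtype.ext (funext fun g => ?_)
  obtain ⟨x, hx⟩ := S.exists_lift_of g
  rw [← S.apply_eq hθ hx, ← S.apply_eq hθ' hx, h x]

theorem Setup.res_inj {ψ ψ' : IrrCharacter C} (hψ : ψ ∈ principalBlock M C)
    (hψ' : ψ' ∈ principalBlock M C) (h : S.res ψ = S.res ψ') : ψ = ψ' := by
  haveI := S.normal
  haveI : Fintype C0 := Fintype.ofFinite _
  haveI : Fact (Nat.Prime 2) := ⟨Nat.prime_two⟩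
  obtain ⟨P, hP⟩ := S.sup
  obtain ⟨θ, hθ, h₀⟩ := (S4551.result 2 M S.hM C0 S.index P hP).1 ψ hψ
  obtain ⟨χ, -, huniq⟩ := (S4551.result 2 M S.hM C0 S.index P hP).2 θ hθ
  refine (huniq ψ ⟨hψ, h₀⟩).trans (huniq ψ' ⟨hψ', fun x => ?_⟩).symm
  rw [← h₀ x, ← S.res_apply hψ x, ← S.res_apply hψ' x, h]

theorem Setup.res_surj {θ : IrrCharacter H} (hθ : θ ∈ principalBlock M H) :
    ∃ ψ ∈ principalBlock M C, S.res ψ = θ := by
  haveI := S.normal
  haveI : Fintype C0 := Fintype.ofFinite _
  haveI : Fact (Nat.Prime 2) := ⟨Nat.prime_two⟩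
  obtain ⟨η, hη, rfl⟩ := exists_compIrr_eq S.hM π S.π_surj S.π_odd hθ
  obtain ⟨P, hP⟩ := S.sup
  obtain ⟨ψ, ⟨hψ, h₀⟩, -⟩ := (S4551.result 2 M S.hM C0 S.index P hP).2 (compIrr ρ S.ρ_surj η)
    ((compIrr_mem_principal_iff S.hM ρ S.ρ_surj S.ρ_odd η).2 hη)
  refine ⟨ψ, hψ, S.eq_of_sec (S.res_mem hψ) hθ fun x => ?_⟩
  rw [S.res_apply hψ x, h₀ x]
  exact (congrArg (η : Y → ℂ) (S.π_sec x)).symm

open scoped Classical in
theorem Setup.sum_res (F : IrrCharacter H → ℂ) :
    ∑ ψ : IrrCharacter C with ψ ∈ principalBlock M C, F (S.res ψ) =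
      ∑ θ : IrrCharacter H with θ ∈ principalBlock M H, F θ := by
  refine Finset.sum_bij (fun ψ _ => S.res ψ) (fun ψ hψ => ?_) (fun ψ hψ ψ' hψ' h => ?_)
    (fun θ hθ => ?_) (fun _ _ => rfl)
  · simp only [Finset.mem_filter, Finset.mem_univ, true_and] at hψ ⊢
    exact S.res_mem hψ
  · simp only [Finset.mem_filter, Finset.mem_univ, true_and] at hψ hψ'
    exact S.res_inj hψ hψ' h
  · simp only [Finset.mem_filter, Finset.mem_univ, true_and] at hθ
    obtain ⟨ψ, hψ, h⟩ := S.res_surj hθ
    exact ⟨ψ, by simpa using hψ, h⟩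

open scoped Classical in
/-- The lift of a function on the model. -/
noncomputable def Setup.lift (f : H → ℂ) : C → ℂ :=
  ∑ ψ : IrrCharacter C,
    (if ψ ∈ principalBlock M C then classInner f (S.res ψ : H → ℂ) else 0) • (ψ : C → ℂ)

open scoped Classical in
theorem Setup.inner_lift (f : H → ℂ) (ψ : IrrCharacter C) :
    classInner (S.lift f) (ψ : C → ℂ) =
      if ψ ∈ principalBlock M C then classInner f (S.res ψ : H → ℂ) else 0 := by
  rw [Setup.lift, classInner_sum_irr]

theorem Setup.inB0_lift (f : H → ℂ) : InB0 M (S.lift f) := by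
  classical
  exact ⟨isClassFunction_sum_irr _, fun ψ hψ => by rw [S.inner_lift, if_neg hψ]⟩

/-- On `C0` the lift is the function. -/
theorem Setup.lift_apply {f : H → ℂ} (hf : InB0 M f) (x : C0) : S.lift f x = f (S.sec x) := by
  classical
  rw [hf.expansion, Setup.lift, Finset.sum_apply,
    ← S.sum_res fun θ => classInner f (θ : H → ℂ) * (θ : H → ℂ) (S.sec x), Finset.sum_filter]
  refine Finset.sum_congr rfl fun ψ _ => ?_
  split_ifs with h
  · rw [S.res_apply h x]; rfl
  · simp

theorem Setup.inner_lift_lift {f g : H → ℂ} (hf : InB0 M f) :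
    classInner (S.lift f) (S.lift g) = classInner f g := by
  classical
  rw [classInner_eq_sum (S.inB0_lift f).1, classInner_eq_sum hf.1]
  simp only [S.inner_lift]
  have hR : ∀ θ : IrrCharacter H, classInner f (θ : H → ℂ) * conj (classInner g (θ : H → ℂ)) =
      if θ ∈ principalBlock M H then classInner f (θ : H → ℂ) * conj (classInner g (θ : H → ℂ))
        else 0 := fun θ => by
    split_ifs with h
    · rfl
    · rw [hf.2 θ h, zero_mul]
  rw [Finset.sum_congr rfl fun θ _ => hR θ, ← Finset.sum_filter,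
    ← S.sum_res fun θ => classInner f (θ : H → ℂ) * conj (classInner g (θ : H → ℂ)),
    Finset.sum_filter]
  refine Finset.sum_congr rfl fun ψ _ => ?_
  split_ifs <;> simp

/-- Two functions of the span agreeing on `C0` are equal. -/
theorem Setup.ext_of_C0 {g g' : C → ℂ} (hg : InB0 M g) (hg' : InB0 M g')
    (h : ∀ x : C0, g x = g' x) : g = g' := by
  classical
  set d := g - g' with hd
  have hdB : InB0 M d := hg.sub hg'
  let Φ : H → ℂ := ∑ θ : IrrCharacter H, (if θ ∈ principalBlock M H then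
    ∑ ψ : IrrCharacter C with ψ ∈ principalBlock M C ∧ S.res ψ = θ, classInner d (ψ : C → ℂ)
    else 0) • (θ : H → ℂ)
  have hΦ : InB0 M Φ := ⟨isClassFunction_sum_irr _, fun θ hθ => by
    rw [classInner_sum_irr, if_neg hθ]⟩
  have hval : ∀ ψ : IrrCharacter C, ψ ∈ principalBlock M C →
      classInner Φ (S.res ψ : H → ℂ) = classInner d (ψ : C → ℂ) := by
    intro ψ hψ
    rw [classInner_sum_irr, if_pos (S.res_mem hψ), Finset.sum_eq_single ψ]
    · intro ψ' hψ' hne
      simp only [Finset.mem_filter, Finset.mem_univ, true_and] at hψ'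
      exact absurd (S.res_inj hψ'.1 hψ hψ'.2) hne
    · intro hn
      simp [hψ] at hn
  have hlift : S.lift Φ = d := by
    refine classFunction_ext (S.inB0_lift Φ).1 hdB.1 fun ψ => ?_
    rw [S.inner_lift]
    split_ifs with hψ
    · exact hval ψ hψ
    · rw [hdB.2 ψ hψ]
  have hΦ0 : Φ = 0 := funext fun k => by
    obtain ⟨x, hx⟩ := S.exists_lift_of k
    rw [← S.inB0_apply_eq hΦ hx, ← S.lift_apply hΦ x, hlift, hd, Pi.sub_apply, h x, sub_self,
      Pi.zero_apply]
  have hd0 : d = 0 := by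
    rw [← hlift, hΦ0, Setup.lift]
    refine Finset.sum_eq_zero fun ψ _ => ?_
    split_ifs <;> simp
  exact sub_eq_zero.1 hd0

theorem Setup.special_sec (x : C0) : t ∈ zpowers (x : C) ↔ e ∈ zpowers (S.sec x) := by
  have ht2 : t * t = 1 := by rw [← pow_two, ← S.t_order, pow_orderOf_eq_one]
  have he2 : e * e = 1 := by rw [← pow_two, ← S.e_order, pow_orderOf_eq_one]
  constructor
  · rintro ⟨k, hk⟩
    refine mem_zpowers_of_map S.π_odd he2 S.e_center ⟨k, ?_⟩
    show π (S.sec x) ^ k = π e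
    rw [S.π_sec, ← S.compat, ← map_zpow]
    exact congrArg ρ (Subtype.ext hk)
  · rintro ⟨k, hk⟩
    have h : (⟨t, S.t_mem⟩ : C0) ∈ zpowers x :=
      mem_zpowers_of_map S.ρ_odd (Subtype.ext ht2)
        (Subgroup.mem_center_iff.2 fun y => Subtype.ext (Subgroup.mem_center_iff.1 S.t_center y))
        ⟨k, by
          show ρ x ^ k = ρ ⟨t, S.t_mem⟩
          rw [← S.π_sec, ← map_zpow, show S.sec x ^ k = e from hk, S.compat]⟩
    obtain ⟨i, hi⟩ := h
    exact ⟨i, congrArg Subtype.val hi⟩

/-- The special part of a lift is the lift of the special part. -/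
theorem Setup.lift_mul_special [DecidablePred fun x : C => t ∈ zpowers x]
    [DecidablePred fun h : H => e ∈ zpowers h] {f : H → ℂ} (hf : InB0 M f) :
    (fun x : C => if t ∈ zpowers x then S.lift f x else 0) =
      S.lift fun h => if e ∈ zpowers h then f h else 0 := by
  haveI : Fact (Nat.Prime 2) := ⟨Nat.prime_two⟩
  have hfe : InB0 M fun h => if e ∈ zpowers h then f h else 0 := by
    convert hf.mul_ind S.hM (fun h => e ∈ zpowers h)
      (fun _ _ hxy => special_iff_of_isConj S.e_order S.e_center hxy)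
  refine S.ext_of_C0 ?_ (S.inB0_lift _) fun x => ?_
  · convert (S.inB0_lift f).mul_ind S.hM (fun x => t ∈ zpowers x)
      (fun _ _ hxy => special_iff_of_isConj S.t_order S.t_center hxy)
  · rw [S.lift_apply hfe x]
    simp only [S.special_sec x, S.lift_apply hf x]

/-- A lift of a special function is special. -/
theorem Setup.lift_special {f : H → ℂ} (hf : InB0 M f) (hs : ∀ h, f h ≠ 0 → e ∈ zpowers h) (x : C)
    (hx : S.lift f x ≠ 0) : t ∈ zpowers x := by
  classical
  by_contra hn
  have hfe : (fun h => if e ∈ zpowers h then f h else 0) = f := funext fun h => by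
    split_ifs with h'
    · rfl
    · exact (not_not.1 fun hne => h' (hs h hne)).symm
  have h2 := congrFun (S.lift_mul_special hf) x
  rw [if_neg hn, hfe] at h2
  exact hx h2.symm

theorem Setup.lift_gen {f : H → ℂ} (hf : IsGeneralizedCharacter H f) :
    IsGeneralizedCharacter C (S.lift f) := by
  classical
  refine CharInduce.isGeneralizedCharacter_of_coeff (S.inB0_lift f).1 fun ψ => ?_
  rw [S.inner_lift]
  split_ifs
  · exact CharInduce.IsGen.exists_int_coeff hf (IsIrr.isCharacter (S.res ψ).2)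
  · exact ⟨0, by simp⟩

theorem Setup.res_trivial : (S.res trivialIrr : H → ℂ) = fun _ => 1 := by
  have h1 : (trivialIrr : IrrCharacter C) ∈ principalBlock M C := sameBlock_refl S.hM _
  have h2 : (trivialIrr : IrrCharacter H) ∈ principalBlock M H := sameBlock_refl S.hM _
  have : S.res trivialIrr = trivialIrr :=
    S.eq_of_sec (S.res_mem h1) h2 fun x => by rw [S.res_apply h1 x]; rfl
  rw [this]; rfl

theorem Setup.lift_one (f : H → ℂ) :
    classInner (S.lift f) (fun _ => 1) = classInner f (fun _ => 1) := by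
  classical
  rw [show (fun _ : C => (1 : ℂ)) = ((trivialIrr : IrrCharacter C) : C → ℂ) from rfl, S.inner_lift,
    if_pos (show (trivialIrr : IrrCharacter C) ∈ principalBlock M C from sameBlock_refl S.hM _),
    S.res_trivial]

theorem Setup.res_at_t {ψ : IrrCharacter C} (hψ : ψ ∈ principalBlock M C) :
    (S.res ψ : H → ℂ) e = (ψ : C → ℂ) t := by
  rw [S.apply_eq (S.res_mem hψ) (g := e) (h := S.sec ⟨t, S.t_mem⟩)
    (by rw [S.π_sec, S.compat]), S.res_apply hψ]

theorem Setup.lift_at_t {f : H → ℂ} (hf : InB0 M f) : S.lift f t = f e := by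
  rw [S.lift_apply hf ⟨t, S.t_mem⟩]
  exact S.inB0_apply_eq hf (by rw [S.π_sec, S.compat])

open scoped Classical in
/-- The inner products on the special elements. -/
theorem Setup.energy {ψ ψ' : IrrCharacter C} (hψ : ψ ∈ principalBlock M C)
    (hψ' : ψ' ∈ principalBlock M C) :
    (Nat.card C : ℂ)⁻¹ *
        ∑ x : C, (if t ∈ zpowers x then (ψ : C → ℂ) x * conj ((ψ' : C → ℂ) x) else 0) =
      (Nat.card H : ℂ)⁻¹ * ∑ h : H, (if e ∈ zpowers h then
        (S.res ψ : H → ℂ) h * conj ((S.res ψ' : H → ℂ) h) else 0) := by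
  have hl : S.lift (S.res ψ : H → ℂ) = (ψ : C → ℂ) :=
    S.ext_of_C0 (S.inB0_lift _) (InB0.irr hψ) fun x => by
      rw [S.lift_apply (InB0.irr (S.res_mem hψ)) x, S.res_apply hψ x]
  have key := congrArg (fun φ => classInner φ (ψ' : C → ℂ))
    (S.lift_mul_special (InB0.irr (S.res_mem hψ)))
  simp only [hl, S.inner_lift, if_pos hψ'] at key
  rw [classInner_def, classInner_def] at key
  simpa only [ite_mul, zero_mul] using key

end Cfsg.Agent.H57.Order
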