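import Cfsg.Agent.H57.Order.TwoGroup
import Cfsg.Agent.H84.QDCent.Main
import Cfsg.Agent.H4.GW.AutShape
import Cfsg.Agent.H63.GW.Shape
import Cfsg.Agent.Cores.PCore

/-!
# The shape of `C(t) / O(C(t))`

A core-free group with semidihedral or wreathed Sylow 2-subgroup `R`, central centre of `R` and a
normal `SL(2, F)`: the elements inducing linear automorphisms form a normal subgroup of odd index
supplemented by `C(R)`; it is `L Z` extended by one element `y` acting as `diag(λ, 1)`.
-/

set_option autoImplicit false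
set_option linter.style.haveILetI false
set_option linter.unusedSectionVars false

namespace Cfsg.Agent.H57.Order.Local

open Subgroup
open Cfsg.Agent.H56 (PSLn SLn semiSL smat toP fieldHom)
open Cfsg.Agent.H5.EvenCyclic (linAut dgl)

universe u

variable {X : Type u} [Group X] [Finite X] {R : Sylow 2 X} {F : Type} [Field F] [Fintype F]
  {ι : SLn 2 F →* X}

/-- The hypotheses. -/
structure Ctx (R : Sylow 2 X) (ι : SLn 2 F →* X) : Prop where
  shape : Cfsg.IsQuasiDihedral (R : Subgroup X) ∨ Cfsg.IsWreathed (R : Subgroup X)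
  core : Cfsg.oddCore X = ⊥
  odd : Odd (Fintype.card F)
  inj : Function.Injective ι
  normal : ι.range.Normal
  central : (center (R : Subgroup X)).map (R : Subgroup X).subtype ≤ center X

/-- The centre of `R` in `X`. -/
def zc (R : Sylow 2 X) : Subgroup X := (center (R : Subgroup X)).map (R : Subgroup X).subtype

/-- Conjugation by `diag(c, 1)`. -/
noncomputable def conjD (c : Fˣ) : SLn 2 F ≃* SLn 2 F := semiSL (dgl F c) (RingEquiv.refl F)

variable (P : Ctx R ι)
include P

theorem zc_le_center : zc R ≤ center X := P.central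

theorem neg_sq : (-1 : SLn 2 F) * -1 = 1 := Subtype.ext (by simp)

theorem neg_ne : (-1 : SLn 2 F) ≠ 1 := fun h => by
  have h' := congrArg (fun s : SLn 2 F => smat s 0 0) h
  simp [smat] at h'
  exact (H4.GW.two_ne P.odd) (by linear_combination -h')

theorem orderOf_neg : orderOf (ι (-1)) = 2 := by
  rw [orderOf_injective ι P.inj]
  exact orderOf_eq_prime (by rw [pow_two, neg_sq P]) (neg_ne P)

/-- An element with square one in `SL(2, F)` is `±1`. -/
theorem sq_one {s : SLn 2 F} (h : s * s = 1) : s = 1 ∨ s = -1 := by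
  have hd : s 0 0 * s 1 1 - s 0 1 * s 1 0 = 1 := by
    have := s.2; rwa [Matrix.det_fin_two] at this
  have h2 := H4.GW.two_ne P.odd
  have e : (s : Matrix (Fin 2) (Fin 2) F) * s = 1 := congrArg Subtype.val h
  have e00 := congrFun (congrFun e 0) 0
  have e01 := congrFun (congrFun e 0) 1
  have e10 := congrFun (congrFun e 1) 0
  have e11 := congrFun (congrFun e 1) 1
  simp [Matrix.mul_apply, Fin.sum_univ_two] at e00 e01 e10 e11
  set a := s 0 0
  set b := s 0 1
  set c := s 1 0
  set d := s 1 1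
  have hbc : b * (a + d) = 0 ∧ c * (a + d) = 0 :=
    ⟨by linear_combination e01, by linear_combination e10⟩
  have htr : (a + d) * (a + d) = 4 := by linear_combination e00 + e11 + 2 * hd
  have h4 : a + d ≠ 0 := fun h0 => by
    rw [h0, mul_zero] at htr
    exact mul_ne_zero h2 h2 (by linear_combination -htr)
  have hb : b = 0 := (mul_eq_zero.1 hbc.1).resolve_right h4
  have hc : c = 0 := (mul_eq_zero.1 hbc.2).resolve_right h4
  have had : a = d := by
    have : (a - d) * (a + d) = 0 := by linear_combination e00 - e11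
    exact sub_eq_zero.1 ((mul_eq_zero.1 this).resolve_right h4)
  have ha : a * a = 1 := by rw [hb, hc] at e00; linear_combination e00
  rcases mul_self_eq_one_iff.1 ha with h' | h'
  · left
    refine Subtype.ext ?_
    ext i j
    fin_cases i <;> fin_cases j
    · simpa using h'
    · simpa using hb
    · simpa using hc
    · simpa using had.symm.trans h'
  · right
    refine Subtype.ext ?_
    ext i j
    fin_cases i <;> fin_cases j
    · simpa using h'
    · simpa using hb
    · simpa using hc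
    · simpa using had.symm.trans h'

theorem neg_mem_center : ι (-1) ∈ center X := by
  haveI := P.normal
  rw [mem_center_iff]
  intro g
  obtain ⟨s, hs⟩ := P.normal.conj_mem _ ⟨-1, rfl⟩ g
  have h2 : s * s = 1 := P.inj (by
    rw [map_mul, hs, map_one]
    have e : ι (-1) * ι (-1) = 1 := by rw [← map_mul, neg_sq P, map_one]
    calc g * ι (-1) * g⁻¹ * (g * ι (-1) * g⁻¹) = g * (ι (-1) * ι (-1)) * g⁻¹ := by group
      _ = 1 := by rw [e]; group)
  rcases sq_one P h2 with rfl | rfl
  · exfalso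
    rw [map_one] at hs
    exact neg_ne P (P.inj (by rw [map_one]; exact conj_eq_one_iff.1 hs.symm))
  · rw [← mul_inv_eq_iff_eq_mul, ← hs]

/-- A non-commuting pair of `L` inside `R`. -/
theorem exists_pair : ∃ a b : SLn 2 F, ι a ∈ (R : Subgroup X) ∧ ι b ∈ (R : Subgroup X) ∧
    ¬ Commute (ι a) (ι b) := by
  haveI := P.normal
  haveI : Fact (Nat.Prime 2) := ⟨Nat.prime_two⟩
  obtain ⟨a, b, D, hD, ha, hb, hab, -, -⟩ := H84.QDCent.exists_quaternion_pair F P.odd
  obtain ⟨T, hT⟩ := (hD.map ι).exists_le_sylow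
  obtain ⟨g, hg⟩ := MulAction.exists_smul_eq X T R
  have hmem : ∀ x ∈ D, g * ι x * g⁻¹ ∈ (R : Subgroup X) := fun x hx => by
    rw [← hg, Sylow.coe_subgroup_smul]
    exact Subgroup.smul_mem_pointwise_smul _ (MulAut.conj g) _ (hT (mem_map_of_mem ι hx))
  obtain ⟨a', ha'⟩ := P.normal.conj_mem _ ⟨a, rfl⟩ g
  obtain ⟨b', hb'⟩ := P.normal.conj_mem _ ⟨b, rfl⟩ g
  refine ⟨a', b', ha' ▸ hmem a ha, hb' ▸ hmem b hb, fun h => hab (P.inj.eq_iff.1 ?_)⟩
  rw [ha', hb'] at h
  have h' := congrArg (fun x => g⁻¹ * x * g) h.eq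
  simp only [mul_assoc, inv_mul_cancel_left, inv_mul_cancel, mul_one] at h'
  rw [map_mul, map_mul]
  exact h'

theorem neg_mem_R : ι (-1) ∈ (R : Subgroup X) := by
  haveI : Fact (Nat.Prime 2) := ⟨Nat.prime_two⟩
  have hc := neg_mem_center P
  have hn : (zpowers (ι (-1))).Normal := ⟨fun n hn g => by
    obtain ⟨k, rfl⟩ := hn
    rw [← conj_zpow, mem_center_iff.1 hc g, mul_inv_cancel_right]
    exact ⟨k, rfl⟩⟩
  exact (IsPGroup.of_card (n := 1)
    (by rw [Nat.card_zpowers, orderOf_neg P, pow_one])).le_sylow_of_normal R (mem_zpowers _)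

theorem centralizer_eq : centralizer (ι.range : Set X) = zc R := by
  haveI := P.normal
  haveI : Fact (Nat.Prime 2) := ⟨Nat.prime_two⟩
  set N := centralizer (ι.range : Set X) with hN
  haveI hNn : N.Normal := inferInstance
  have hzle : zc R ≤ N := P.central.trans (center_le_centralizer _)
  obtain ⟨a, b, ha, hb, hab⟩ := exists_pair P
  have hNR : N ⊓ (R : Subgroup X) ≤ zc R := by
    rintro c ⟨hcN, hcR⟩
    refine ⟨⟨c, hcR⟩, TwoGroup.mem_center_of_centralizes P.shape
      (Q := ι.range.subgroupOf (R : Subgroup X)) (a := ⟨ι a, ha⟩) (b := ⟨ι b, hb⟩)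
      ⟨a, rfl⟩ ⟨b, rfl⟩ (fun h => hab (congrArg Subtype.val h.eq)) (fun q hq => ?_), rfl⟩
    exact Subtype.ext (mem_centralizer_iff.1 hcN _ hq).symm
  obtain ⟨P'⟩ : Nonempty (Sylow 2 N) := inferInstance
  obtain ⟨g, hg⟩ := (P'.isPGroup'.map N.subtype).exists_le_sylow
  obtain ⟨k, hk⟩ := MulAction.exists_smul_eq X g R
  have hle : (P' : Subgroup N).map N.subtype ≤ zc R := by
    intro x hx
    have hxR : k * x * k⁻¹ ∈ (R : Subgroup X) := by
      rw [← hk, Sylow.coe_subgroup_smul]
      exact Subgroup.smul_mem_pointwise_smul _ (MulAut.conj k) _ (hg hx)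
    obtain ⟨n, -, rfl⟩ := hx
    have hc := P.central (hNR ⟨hNn.conj_mem _ n.2 k, hxR⟩)
    have e : (n : X) = k * (n : X) * k⁻¹ := by
      conv_lhs => rw [show (n : X) = k⁻¹ * (k * (n : X) * k⁻¹) * k by group,
        mem_center_iff.1 hc k⁻¹, inv_mul_cancel_right]
    rw [N.coe_subtype, e]
    exact hNR ⟨hNn.conj_mem _ n.2 k, hxR⟩
  haveI hzcyc : IsCyclic (zc R) := by
    haveI := (TwoGroup.card_center_cases P.shape).1
    exact isCyclic_of_surjective
      (((center (R : Subgroup X)).equivMapOfInjective _ (R : Subgroup X).subtype_injective).toMonoidHom)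
      (MulEquiv.surjective _)
  haveI : IsCyclic ((P' : Subgroup N).map N.subtype) :=
    isCyclic_of_injective (Subgroup.inclusion hle) (Subgroup.inclusion_injective hle)
  haveI : IsCyclic (P' : Subgroup N) := isCyclic_of_surjective
    (((P' : Subgroup N).equivMapOfInjective _ N.subtype_injective).symm.toMonoidHom)
    (MulEquiv.surjective _)
  have hON : Cfsg.oddCore N = ⊥ := by
    have h := Cores.map_pPrimeCore_le_of_normal (p := 2) N
    rw [show Cfsg.pPrimeCore 2 X = ⊥ from P.core, le_bot_iff] at h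
    exact (map_eq_bot_iff_of_injective _ N.subtype_injective).1 h
  have hp : IsPGroup 2 N := H63.GW.isPGroup_of_complement hON (H63.GW.hasNormalPComplement_of_cyclic P')
  exact le_antisymm (fun x hx => hNR ⟨hx, hp.le_sylow_of_normal R hx⟩) hzle

theorem mem_zc_of_commute {x : X} (h : ∀ s, Commute x (ι s)) : x ∈ zc R := by
  rw [← centralizer_eq P, mem_centralizer_iff]
  rintro _ ⟨s, rfl⟩
  exact (h s).symm.eq

theorem ι_mem_zc {s : SLn 2 F} : ι s ∈ zc R ↔ s ∈ center (SLn 2 F) := by
  constructor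
  · intro h
    refine mem_center_iff.2 fun r => P.inj ?_
    rw [map_mul, map_mul]
    exact mem_center_iff.1 (P.central h) _
  · intro h
    refine mem_zc_of_commute P fun r => ?_
    exact ((show Commute s r from (mem_center_iff.1 h r).symm)).map ι

/-- What the main theorem needs. -/
structure Shape (R : Sylow 2 X) (ι : SLn 2 F →* X) (c : Fˣ) (W : Subgroup X) (y z : X) : Prop where
  normal : W.Normal
  index : ¬ 2 ∣ W.index
  sup : W ⊔ centralizer ((R : Subgroup X) : Set X) = ⊤
  R_le : (R : Subgroup X) ≤ W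
  range_le : ι.range ≤ W
  zc_le : zc R ≤ W
  y_mem : y ∈ W
  y_not_mem : ∀ s, ∀ d ∈ zc R, y ≠ ι s * d
  decomp : ∀ w ∈ W, ∃ s, ∃ d ∈ zc R, w = ι s * d ∨ w = y * (ι s * d)
  conj : ∀ s, y * ι s * y⁻¹ = ι (conjD c s)
  z_mem : z ∈ zc R
  y_sq : ∃ h : SLn 2 F, y * y = ι h * z ∧
    (h : Matrix (Fin 2) (Fin 2) F) = (c : F)⁻¹ • (!![(c : F), 0; 0, 1] * !![(c : F), 0; 0, 1])
  z_gen : ∀ d ∈ zc R, d ∈ zpowers z

end Cfsg.Agent.H57.Order.Local
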