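import Cfsg.Agent.H57.Order.Local
import Cfsg.Agent.BlockBasic.PPart

/-!
# The shape of `C(t) / O(C(t))`: existence
-/

set_option autoImplicit false
set_option linter.style.haveILetI false
set_option linter.unusedSectionVars false

namespace Cfsg.Agent.H57.Order.Local

open Subgroup
open Cfsg.Agent.H56 (PSLn SLn semiSL smat toP fieldHom autOf)
open Cfsg.Agent.H5.EvenCyclic (linAut dgl)
open Cfsg.Agent.H4.GW (actHom fieldPartHom)
open Cfsg.Agent.BlockBasic (pPart pReg)

universe u

variable {X : Type u} [Group X] [Finite X] {R : Sylow 2 X} {F : Type} [Field F] [Fintype F]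
  {ι : SLn 2 F →* X}

theorem smat_conjD (c : Fˣ) (s : SLn 2 F) :
    smat (conjD c s) = (dgl F c : Matrix (Fin 2) (Fin 2) F) * smat s *
      ((dgl F c)⁻¹ : GL (Fin 2) F) := by
  show smat (semiSL _ _ s) = _
  rw [H56.smat_semiSL]
  congr 2

/-- No square root with the same determinant as a non-square scalar. -/
theorem no_sq_eq_scalar (hodd : Odd (Fintype.card F)) {c : F} (hc : ¬ IsSquare c)
    (M : Matrix (Fin 2) (Fin 2) F) (hd : M.det = c) (h : M * M = c • 1) : False := by
  have h2 := H4.GW.two_ne hodd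
  rw [Matrix.det_fin_two] at hd
  have e00 := congrFun (congrFun h 0) 0
  have e11 := congrFun (congrFun h 1) 1
  simp [Matrix.mul_apply, Fin.sum_univ_two] at e00 e11
  refine hc ⟨(M 0 0 + M 1 1) / 2, ?_⟩
  field_simp
  linear_combination -(e00 + e11 + 2 * hd)

variable (P : Ctx R ι)
include P

set_option maxHeartbeats 3200000 in
/-- The group of linear elements. -/
theorem exists_shape {c : Fˣ} (hc : ¬ IsSquare (c : F)) :
    ∃ (W : Subgroup X) (y z : X), Shape R ι c W y z := by
  classical
  haveI : Fact (Nat.Prime 2) := ⟨Nat.prime_two⟩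
  haveI := P.normal
  haveI hzn : (zc R).Normal := ⟨fun n hn g => by
    rw [mem_center_iff.1 (P.central hn) g, mul_inv_cancel_right]; exact hn⟩
  haveI hzn' : (zc R).Normal := hzn
  set q := QuotientGroup.mk' (zc R) with hq
  have hq0 : ∀ {x : X}, q x = 1 ↔ x ∈ zc R := fun {x} => QuotientGroup.eq_one_iff x
  set ψ : SLn 2 F →* X ⧸ zc R := q.comp ι with hψ
  set K := ψ.range with hK
  haveI : K.Normal := by
    rw [hK, hψ, MonoidHom.range_comp]
    exact Subgroup.Normal.map inferInstance q (QuotientGroup.mk'_surjective _)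
  have hψker : ψ.ker = center (SLn 2 F) := by
    ext s
    rw [MonoidHom.mem_ker, hψ, MonoidHom.comp_apply, hq0]
    exact ι_mem_zc P
  let eK : ↥K ≃* PSLn 2 F :=
    (QuotientGroup.quotientKerEquivRange ψ).symm.trans (QuotientGroup.quotientMulEquivOfEq hψker)
  have heK : ∀ s, ((eK.symm (toP s) : ↥K) : X ⧸ zc R) = ψ s := fun s => rfl
  -- automorphisms of `SL`
  let eL : SLn 2 F ≃* ι.range := MonoidHom.ofInjective P.inj
  let φ : X → (SLn 2 F ≃* SLn 2 F) := fun h => (eL.trans (MulAut.conjNormal h)).trans eL.symm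
  have hφ : ∀ h s, ι (φ h s) = h * ι s * h⁻¹ := fun h s => by
    have : (eL (φ h s) : X) = h * ι s * h⁻¹ := by
      show (eL (eL.symm (MulAut.conjNormal h (eL s))) : X) = _
      rw [eL.apply_symm_apply, MulAut.conjNormal_apply]
      rfl
    exact this
  have hact : ∀ h, actHom K eK (q h) = autOf (φ h) := fun h => by
    refine MulEquiv.ext fun x => ?_
    obtain ⟨s, rfl⟩ := H56.toP_surjective x
    rw [H4.GW.actHom_apply, H56.autOf_toP, ← eK.eq_symm_apply]
    refine Subtype.ext ?_
    rw [MulAut.conjNormal_apply, heK, heK]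
    show q h * q (ι s) * (q h)⁻¹ = q (ι (φ h s))
    rw [hφ, map_mul, map_mul, map_inv]
  have hlift : ∀ h g, actHom K eK (q h) = linAut g →
      ∀ s, h * ι s * h⁻¹ = ι (semiSL g (RingEquiv.refl F) s) := by
    intro h g hg s
    set σ := semiSL g (RingEquiv.refl F) with hσ
    have h1 : autOf (φ h) = autOf σ := (hact h).symm.trans hg
    have h2 : autOf ((φ h).trans σ.symm) = 1 := by
      rw [H56.autOf_trans, h1, ← H56.autOf_trans, σ.self_trans_symm]
      refine MulEquiv.ext fun x => ?_
      obtain ⟨t, rfl⟩ := H56.toP_surjective x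
      rfl
    have h3 := H84.QDCent.eq_one_of_autOf_eq_one P.odd _ h2 s
    rw [← hφ]
    congr 1
    have := congrArg σ h3
    simpa using this
  -- the centraliser of `K`
  have hC : centralizer (K : Set (X ⧸ zc R)) = ⊥ := by
    rw [eq_bot_iff]
    intro y hy
    obtain ⟨h, rfl⟩ := QuotientGroup.mk'_surjective (zc R) y
    have h1 : autOf (φ h) = 1 := by
      rw [← hact]
      refine MulEquiv.ext fun x => ?_
      rw [H4.GW.actHom_apply, MulAut.one_apply, ← eK.eq_symm_apply]
      refine Subtype.ext ?_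
      rw [MulAut.conjNormal_apply]
      exact mul_inv_eq_iff_eq_mul.2 (mem_centralizer_iff.1 hy _ (eK.symm x).2).symm
    rw [mem_bot, hq0]
    refine mem_zc_of_commute P fun s => ?_
    have h2 := hφ h s
    rw [H84.QDCent.eq_one_of_autOf_eq_one P.odd _ h1 s, eq_comm, mul_inv_eq_iff_eq_mul] at h2
    exact h2
  -- Sylow subgroups of the quotient
  have hD : H63.GW.SylowDType (X ⧸ zc R) := by
    intro T
    set f : (R : Subgroup X) →* X ⧸ zc R := q.comp (R : Subgroup X).subtype with hf
    have hker : f.ker = center (R : Subgroup X) := by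
      ext r
      rw [MonoidHom.mem_ker, hf, MonoidHom.comp_apply, hq0]
      exact ⟨fun ⟨r', hr', e⟩ => Subtype.ext e ▸ hr', fun hr => ⟨r, hr, rfl⟩⟩
    let T₀ := R.mapSurjective (f := q) (QuotientGroup.mk'_surjective _)
    have hr : f.range = (T₀ : Subgroup (X ⧸ zc R)) := by
      rw [hf, MonoidHom.range_comp, Subgroup.range_subtype, Sylow.coe_mapSurjective]
    exact (TwoGroup.dtype_quotient P.shape).congr
      ((QuotientGroup.quotientMulEquivOfEq hker.symm).trans
        ((QuotientGroup.quotientKerEquivRange f).trans ((MulEquiv.subgroupCongr hr).trans (T₀.equiv T))))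
  set M := (fieldPartHom eK).ker with hM
  have hKM : K ≤ M := H4.GW.le_ker eK
  have hinv : ∀ y : X ⧸ zc R, y * y = 1 → y ∈ M := fun y hy =>
    MonoidHom.mem_ker.2 (H4.GW.fieldPart_involution eK hD P.odd hC hy)
  have hV : ∃ V : Subgroup (X ⧸ zc R), IsKleinFour V := by
    obtain ⟨s, -, hs1, hs2, hsw, hsc⟩ := H4.GW.exists_fixed_pair P.odd (RingEquiv.refl F)
    let j : PSLn 2 F →* X ⧸ zc R := K.subtype.comp eK.symm.toMonoidHom
    have hj : Function.Injective j := K.subtype_injective.comp eK.symm.injective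
    have hw := H5.EvenCyclic.toP_wm_order (F := F) P.odd
    obtain ⟨V, hV, -⟩ := H4.GW.exists_klein (a := j (toP (H5.EvenCyclic.wm F))) (b := j (toP s))
      (by rw [← map_mul, ← pow_two, orderOf_dvd_iff_pow_eq_one.1 (dvd_of_eq hw), map_one])
      (by rw [← map_mul, hs2, map_one]) (hsc.map j)
      (fun h0 => by
        rw [hj (h0.trans (map_one j).symm), orderOf_one] at hw
        exact absurd hw (by norm_num))
      (fun h0 => hs1 (hj (h0.trans (map_one j).symm))) (fun h0 => hsw (hj h0).symm)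
    exact ⟨V, hV⟩
  have hSylM : ∀ T : Sylow 2 (X ⧸ zc R), (T : Subgroup (X ⧸ zc R)) ≤ M :=
    fun T => H4.GW.sylow_le_of_involutions hD hV hinv T
  -- the element acting as `diag (c, 1)`
  obtain ⟨y, hy, hyconj⟩ : ∃ y : X, q y ∈ M ∧ actHom K eK (q y) = linAut (dgl F c) := by
    obtain ⟨m, hm, hmK⟩ : ∃ m ∈ M, m ∉ K := by
      by_contra! hall
      refine TwoGroup.not_mul_center P.shape (ι.range.subgroupOf (R : Subgroup X))
        (t := ⟨ι (-1), neg_mem_R P⟩) ?_ ?_ ⟨-1, rfl⟩ ?_ fun r => ?_
      · exact mem_center_iff.2 fun g => Subtype.ext (mem_center_iff.1 (neg_mem_center P) _)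
      · rw [← Subgroup.orderOf_coe]; exact orderOf_neg P
      · rintro r ⟨s, hs⟩ hrr
        have h2 : s * s = 1 := P.inj (by rw [map_mul, map_one, hs]; exact congrArg Subtype.val hrr)
        rcases sq_one P h2 with rfl | rfl
        · left; exact Subtype.ext (hs.symm.trans (map_one ι))
        · right; exact Subtype.ext hs.symm
      · have hmem : q (r : X) ∈ K := hall _ (hSylM (R.mapSurjective (f := q) (QuotientGroup.mk'_surjective _))
          (by rw [Sylow.coe_mapSurjective]; exact mem_map_of_mem q r.2))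
        obtain ⟨s, hs⟩ := hmem
        have hd : (ι s)⁻¹ * r ∈ zc R := by
          rw [← hq0, map_mul, map_inv]; exact inv_mul_eq_one.2 hs
        have hdR : (ι s)⁻¹ * r ∈ (R : Subgroup X) := map_subtype_le _ hd
        have hsR : ι s ∈ (R : Subgroup X) := by
          simpa using mul_mem r.2 (inv_mem hdR)
        obtain ⟨d, hdc, hdv⟩ := hd
        exact ⟨⟨ι s, hsR⟩, ⟨s, rfl⟩, d, hdc, Subtype.ext
          (show (r : X) = ι s * (d : X) by
            rw [show ((d : X)) = (ι s)⁻¹ * r from hdv, mul_inv_cancel_left])⟩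
    obtain ⟨h, rfl⟩ := QuotientGroup.mk'_surjective (zc R) m
    obtain ⟨g, hg⟩ := H4.GW.exists_lin eK hm
    have hgsq : ¬ IsSquare ((Matrix.GeneralLinearGroup.det g : Fˣ) : F) := fun hs => by
      obtain ⟨c', hc'⟩ := H5.EvenCyclic.exists_sq_iff.1 hs
      exact hmK (H4.GW.mem_of_det_sq eK hC hg hc')
    obtain ⟨c', hc'⟩ := H5.EvenCyclic.exists_sq_of_not_sq P.odd hgsq
      (b := c⁻¹) (fun h' => hc (by simpa using h'.inv))
    obtain ⟨s, hs⟩ := H84.QDCent.linAut_eq_conj_of_det (g := g * (dgl F c)⁻¹) (c := c')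
      (by rw [map_mul, map_inv, H5.EvenCyclic.det_dgl]; exact hc')
    have hsK : actHom K eK (q (ι s)) = MulAut.conj (toP s) := by
      rw [← H4.GW.actHom_symm eK, heK]; rfl
    refine ⟨(ι s)⁻¹ * h, ?_, ?_⟩
    · rw [map_mul, map_inv]; exact mul_mem (inv_mem (hKM ⟨s, rfl⟩)) hm
    · rw [map_mul q, map_inv q, map_mul, map_inv, hsK, hg, ← hs, map_mul, map_inv]
      group
  have hconj : ∀ s, y * ι s * y⁻¹ = ι (conjD c s) := hlift y _ hyconj
  -- the square of `y`
  have hcinv : ((c : F))⁻¹ ≠ 0 := inv_ne_zero c.ne_zero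
  let hs : SLn 2 F := ⟨(c : F)⁻¹ • (!![(c : F), 0; 0, 1] * !![(c : F), 0; 0, 1]), by
    rw [Matrix.det_smul, Matrix.det_mul, Matrix.det_fin_two_of, Fintype.card_fin]
    field_simp
    ring⟩
  have hdd : ∀ s, conjD c (conjD c s) = hs * s * hs⁻¹ := by
    intro s
    rw [eq_mul_inv_iff_mul_eq]
    refine Subtype.ext ?_
    show smat (conjD c (conjD c s)) * smat hs = smat hs * smat s
    rw [smat_conjD, smat_conjD,
      show smat hs = (c : F)⁻¹ • ((dgl F c : Matrix (Fin 2) (Fin 2) F) * (dgl F c : Matrix _ _ F)) by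
        rw [H5.EvenCyclic.dgl_coe],
      Matrix.mul_smul, Matrix.smul_mul]
    congr 1
    have e : ((dgl F c)⁻¹ : GL (Fin 2) F).val * (dgl F c : Matrix (Fin 2) (Fin 2) F) = 1 := by
      rw [← Units.val_mul, inv_mul_cancel, Units.val_one]
    set D := (dgl F c : Matrix (Fin 2) (Fin 2) F)
    set D' := ((dgl F c)⁻¹ : GL (Fin 2) F).val
    calc D * (D * smat s * D') * D' * (D * D) = D * D * smat s * D' * ((D' * D) * D) := by
          simp only [mul_assoc]
      _ = D * D * smat s := by rw [e, one_mul, mul_assoc (D * D * smat s), e, mul_one]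
  set z := (ι hs)⁻¹ * (y * y) with hz
  have hzc : z ∈ zc R := by
    refine mem_zc_of_commute P fun s => ?_
    have e1 : y * y * ι s = ι (hs * s * hs⁻¹) * (y * y) := by
      rw [← hdd, ← hconj, ← hconj]; group
    show z * ι s = ι s * z
    rw [hz, mul_assoc, e1, map_mul, map_mul, map_inv]
    group
  have hgen : ∀ d ∈ zc R, d ∈ zpowers z := by
    by_contra hcon
    push Not at hcon
    haveI hzcyc : IsCyclic (zc R) := by
      haveI := (TwoGroup.card_center_cases P.shape).1
      exact isCyclic_of_surjective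
        (((center (R : Subgroup X)).equivMapOfInjective _ (R : Subgroup X).subtype_injective).toMonoidHom)
        (MulEquiv.surjective _)
    obtain ⟨g₀, hg₀⟩ := IsCyclic.exists_generator (α := zc R)
    obtain ⟨k, hk⟩ := hg₀ ⟨z, hzc⟩
    have hkX : (g₀ : X) ^ k = z := by rw [← Subgroup.coe_zpow]; exact congrArg Subtype.val hk
    obtain ⟨d₂, hd₂, hd₂z⟩ : ∃ d ∈ zc R, d * d = z := by
      rcases Int.even_or_odd k with ⟨j, rfl⟩ | hodd
      · exact ⟨(g₀ : X) ^ j, zpow_mem g₀.2 j, by rw [← zpow_add, hkX]⟩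
      · exfalso
        obtain ⟨d, hd, hdz⟩ := hcon
        obtain ⟨i, hi⟩ := hg₀ ⟨d, hd⟩
        refine hdz ?_
        have h2 : IsPGroup 2 (zc R) :=
          (TwoGroup.isPGroup P.shape).to_subgroup (center (R : Subgroup X)) |>.of_equiv
            ((center (R : Subgroup X)).equivMapOfInjective _ (R : Subgroup X).subtype_injective)
        obtain ⟨e, he⟩ := IsPGroup.iff_orderOf.1 h2 g₀
        have hgz : (g₀ : X) ∈ zpowers z := by
          have hcop : Int.gcd k ((orderOf g₀ : ℕ) : ℤ) = 1 := by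
            rw [he]
            push_cast
            exact Int.isCoprime_iff_gcd_eq_one.1
              ((Int.prime_two.coprime_iff_not_dvd.2
                (fun h => (Int.not_even_iff_odd.2 hodd) (even_iff_two_dvd.2 h))).symm.pow_right)
          have hb := Int.gcd_eq_gcd_ab k ((orderOf g₀ : ℕ) : ℤ)
          rw [hcop] at hb
          refine ⟨Int.gcdA k (orderOf g₀), ?_⟩
          show z ^ _ = (g₀ : X)
          rw [← hkX, ← zpow_mul]
          have hord : (g₀ : X) ^ ((orderOf g₀ : ℕ) : ℤ) = 1 := by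
            rw [zpow_natCast, ← Subgroup.coe_pow, pow_orderOf_eq_one, Subgroup.coe_one]
          conv_rhs => rw [← zpow_one (g₀ : X), show (1 : ℤ) = _ from hb, zpow_add,
            zpow_mul _ ((orderOf g₀ : ℕ) : ℤ), hord, one_zpow, mul_one]
        have : (g₀ : X) ^ i = d := by rw [← Subgroup.coe_zpow]; exact congrArg Subtype.val hi
        rw [← this]; exact zpow_mem hgz i
    -- then `L ∪ y' L` has one involution
    set y' := y * d₂⁻¹ with hy'
    have hd₂c : ∀ g, Commute d₂⁻¹ g := fun g =>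
      (mem_center_iff.1 (inv_mem (P.central hd₂)) g).symm
    have hy'2 : y' * y' = ι hs := by
      rw [hy', (hd₂c y).mul_mul_mul_comm, ← mul_inv_rev, hd₂z, hz]
      group
    have hy'conj : ∀ s, y' * ι s * y'⁻¹ = ι (conjD c s) := fun s => by
      rw [← hconj, hy', mul_inv_rev, inv_inv, mul_assoc y, (hd₂c (ι s)).eq]
      group
    let L' : Subgroup X :=
      { carrier := {x | (∃ s, x = ι s) ∨ ∃ s, x = y' * ι s}
        one_mem' := Or.inl ⟨1, (map_one ι).symm⟩
        mul_mem' := by
          have hsw : ∀ s, ι s * y' = y' * ι ((conjD c).symm s) := fun s => by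
            have := hy'conj ((conjD c).symm s)
            rw [MulEquiv.apply_symm_apply] at this
            rw [← this]; group
          rintro a b (⟨s, rfl⟩ | ⟨s, rfl⟩) (⟨r, rfl⟩ | ⟨r, rfl⟩)
          · exact Or.inl ⟨s * r, (map_mul ι s r).symm⟩
          · exact Or.inr ⟨(conjD c).symm s * r, by rw [← mul_assoc, hsw, mul_assoc, map_mul]⟩
          · exact Or.inr ⟨s * r, by rw [mul_assoc, map_mul]⟩
          · exact Or.inl ⟨hs * (conjD c).symm s * r, by
              rw [mul_assoc, ← mul_assoc (ι s), hsw, ← mul_assoc, ← mul_assoc, hy'2, map_mul, map_mul]⟩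
        inv_mem' := by
          rintro a (⟨s, rfl⟩ | ⟨s, rfl⟩)
          · exact Or.inl ⟨s⁻¹, (map_inv ι s).symm⟩
          · refine Or.inr ⟨hs⁻¹ * (conjD c s)⁻¹, ?_⟩
            rw [map_mul, map_inv, map_inv, ← hy'2, ← hy'conj]
            group }
    refine TwoGroup.not_mul_center P.shape (L'.subgroupOf (R : Subgroup X))
      (t := ⟨ι (-1), neg_mem_R P⟩) ?_ ?_ (Or.inl ⟨-1, rfl⟩) ?_ fun r => ?_
    · exact mem_center_iff.2 fun g => Subtype.ext (mem_center_iff.1 (neg_mem_center P) _)
    · rw [← Subgroup.orderOf_coe]; exact orderOf_neg P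
    · rintro r (⟨s, hs'⟩ | ⟨s, hs'⟩) hrr
      · have h2 : s * s = 1 := P.inj (by rw [map_mul, map_one, ← hs']; exact congrArg Subtype.val hrr)
        rcases sq_one P h2 with rfl | rfl
        · left; exact Subtype.ext (hs'.trans (map_one ι))
        · right; exact Subtype.ext hs'
      · exfalso
        have h1 : y' * ι s * (y' * ι s) = 1 := by rw [← hs']; exact congrArg Subtype.val hrr
        have h2 : conjD c s * hs * s = 1 := P.inj (by
          rw [map_mul, map_mul, map_one, ← hy'conj, ← hy'2, ← h1]; group)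
        have h3 := congrArg smat h2
        simp only [smat] at h3
        refine no_sq_eq_scalar P.odd hc ((dgl F c : Matrix (Fin 2) (Fin 2) F) * smat s) ?_ ?_
        · rw [Matrix.det_mul, show (smat s).det = 1 from s.2, mul_one, H5.EvenCyclic.dgl_coe,
            Matrix.det_fin_two_of]
          ring
        · change smat (conjD c s) * smat hs * smat s = 1 at h3
          rw [smat_conjD, show smat hs = (c : F)⁻¹ •
            ((dgl F c : Matrix (Fin 2) (Fin 2) F) * (dgl F c : Matrix _ _ F)) by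
              rw [H5.EvenCyclic.dgl_coe], Matrix.mul_smul, Matrix.smul_mul] at h3
          have e : ((dgl F c)⁻¹ : GL (Fin 2) F).val * (dgl F c : Matrix (Fin 2) (Fin 2) F) = 1 := by
            rw [← Units.val_mul, inv_mul_cancel, Units.val_one]
          set D := (dgl F c : Matrix (Fin 2) (Fin 2) F)
          set D' := ((dgl F c)⁻¹ : GL (Fin 2) F).val
          rw [show D * smat s * D' * (D * D) * smat s = D * smat s * ((D' * D) * (D * smat s)) by
            simp only [mul_assoc], e, one_mul] at h3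
          rw [← h3, smul_smul, mul_inv_cancel₀ c.ne_zero, one_smul]
    · have hrM : q (r : X) ∈ M := hSylM (R.mapSurjective (f := q) (QuotientGroup.mk'_surjective _))
        (by rw [Sylow.coe_mapSurjective]; exact mem_map_of_mem q r.2)
      obtain ⟨g, hg⟩ := H4.GW.exists_lin eK hrM
      have hfin : ∀ {a : X}, a ∈ L' → a⁻¹ * (r : X) ∈ zc R →
          ∃ q' ∈ L'.subgroupOf (R : Subgroup X), ∃ d ∈ center (R : Subgroup X), r = q' * d := by
        intro a ha hd
        have haR : a ∈ (R : Subgroup X) := by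
          simpa using mul_mem r.2 (inv_mem (map_subtype_le _ hd : a⁻¹ * (r : X) ∈ (R : Subgroup X)))
        obtain ⟨d, hdc, hdv⟩ := hd
        exact ⟨⟨a, haR⟩, ha, d, hdc, Subtype.ext (show (r : X) = a * (d : X) by
          rw [show ((d : X)) = a⁻¹ * (r : X) from hdv, mul_inv_cancel_left])⟩
      by_cases hsq : IsSquare ((Matrix.GeneralLinearGroup.det g : Fˣ) : F)
      · obtain ⟨c', hc'⟩ := H5.EvenCyclic.exists_sq_iff.1 hsq
        obtain ⟨s, hs'⟩ := H4.GW.mem_of_det_sq eK hC hg hc'
        refine hfin (a := ι s) (Or.inl ⟨s, rfl⟩) ?_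
        rw [← hq0, map_mul, map_inv]; exact inv_mul_eq_one.2 hs'
      · obtain ⟨c', hc'⟩ := H5.EvenCyclic.exists_sq_of_not_sq P.odd (a := c⁻¹)
          (fun h' => hc (by simpa using h'.inv)) hsq
        have hqy' : q y' = q y := by
          rw [hy', map_mul, hq0.2 (inv_mem hd₂), mul_one]
        obtain ⟨s, hs'⟩ := H4.GW.mem_of_det_sq eK hC (y := (q y)⁻¹ * q r)
          (g := (dgl F c)⁻¹ * g) (by rw [map_mul, map_inv, hyconj, hg, map_mul, map_inv])
          (c := c') (by rw [map_mul, map_inv, H5.EvenCyclic.det_dgl]; exact hc')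
        refine hfin (a := y' * ι s) (Or.inr ⟨s, rfl⟩) ?_
        rw [← hq0, map_mul, map_inv, map_mul, hqy', show q (ι s) = ψ s from rfl, hs']
        group
  refine ⟨M.comap q, y, z, ⟨inferInstance, ?_, ?_, ?_, ?_, ?_, hy, ?_, ?_, hconj, hzc,
    ⟨hs, (mul_inv_cancel_left _ _).symm, rfl⟩, hgen⟩⟩
  · rw [index_comap_of_surjective _ (QuotientGroup.mk'_surjective _)]
    intro hd
    obtain ⟨T⟩ : Nonempty (Sylow 2 (X ⧸ zc R)) := inferInstance
    exact T.not_dvd_index (hd.trans (Subgroup.index_dvd_of_le (hSylM T)))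
  · -- the Frattini argument
    set W := M.comap q
    have hRW : (R : Subgroup X) ≤ W := fun r hr =>
      hSylM (R.mapSurjective (f := q) (QuotientGroup.mk'_surjective _))
        (by rw [Sylow.coe_mapSurjective]; exact mem_map_of_mem q hr)
    rw [eq_top_iff]
    rintro g -
    have hfr : g ∈ normalizer ((R : Subgroup X) : Set X) ⊔ W := by
      have h := Sylow.normalizer_sup_eq_top (R.subtype hRW)
      rw [show ((R.subtype hRW : Sylow 2 W) : Subgroup W).map W.subtype = (R : Subgroup X) by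
        rw [Sylow.coe_subtype, Subgroup.map_subgroupOf_eq_of_le hRW]] at h
      rw [h]; trivial
    refine (sup_le ?_ le_sup_left : normalizer ((R : Subgroup X) : Set X) ⊔ W ≤ _) hfr
    intro n hn
    have hsplit : pPart (p := 2) n ∈ (R : Subgroup X) ∧
        pReg (p := 2) n ∈ centralizer ((R : Subgroup X) : Set X) := by
      obtain ⟨a, ha⟩ := BlockBasic.exists_orderOf_pPart (p := 2) n
      have hmem : pPart (p := 2) n ∈ zpowers n ∧ pReg (p := 2) n ∈ zpowers n := by
        obtain ⟨v, m, hm, hvm⟩ := Nat.exists_eq_pow_mul_and_not_dvd (orderOf_pos n).ne' 2 (by norm_num)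
        obtain ⟨k, l, hk1, hk2, hl1, hl2⟩ := BlockBasic.exists_pPart_exponent Nat.prime_two v m hm
        have hco : Nat.Coprime (2 ^ v) m := ((Nat.prime_two.coprime_iff_not_dvd).2 hm).pow_left v
        have h1 : n ^ k * n ^ l = n := by
          rw [← pow_add]
          conv_rhs => rw [← pow_one n]
          rw [pow_eq_pow_iff_modEq, hvm]
          exact (Nat.modEq_and_modEq_iff_modEq_mul hco).1
            ⟨by simpa using hk1.add hl1, by simpa using hk2.add hl2⟩
        have h2 : pPart (p := 2) n = n ^ k := by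
          conv_lhs => rw [← h1]
          refine BlockBasic.pPart_mul_of ((Commute.refl n).pow_pow k l) ?_ ?_
          · obtain ⟨j, -, hj⟩ := (Nat.dvd_prime_pow Nat.prime_two).1 (orderOf_dvd_of_pow_eq_one
              (show (n ^ k) ^ (2 ^ v) = 1 by
                rw [← pow_mul, ← orderOf_dvd_iff_pow_eq_one, hvm, mul_comm k]
                exact Nat.mul_dvd_mul_left _ (Nat.modEq_zero_iff_dvd.1 hk2)))
            exact ⟨j, hj⟩
          · intro h
            refine hm (h.trans (orderOf_dvd_of_pow_eq_one ?_))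
            rw [← pow_mul, ← orderOf_dvd_iff_pow_eq_one, hvm]
            exact Nat.mul_dvd_mul_right (Nat.modEq_zero_iff_dvd.1 hl1) _
        refine ⟨h2 ▸ pow_mem (mem_zpowers n) k, ?_⟩
        rw [BlockBasic.pReg, h2]
        exact mul_mem (inv_mem (pow_mem (mem_zpowers n) k)) (mem_zpowers n)
      refine ⟨?_, ?_⟩
      · let N := normalizer ((R : Subgroup X) : Set X)
        have hp : IsPGroup 2 (zpowers (pPart (p := 2) n)) :=
          IsPGroup.of_card (n := a) (by rw [Nat.card_zpowers, ha])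
        have hle : zpowers (pPart (p := 2) n) ≤ N :=
          zpowers_le.2 ((zpowers_le.2 hn) hmem.1)
        have h := hp.to_sup_of_normal_right' R.isPGroup' hle
        exact R.is_maximal' h le_sup_right ▸ mem_sup_left (mem_zpowers _)
      · have hN : pReg (p := 2) n ∈ normalizer ((R : Subgroup X) : Set X) :=
          (zpowers_le.2 hn) hmem.2
        set Φ := Subgroup.normalizerMonoidHom (R : Subgroup X)
        have hΦ : Φ ⟨_, hN⟩ = 1 := by
          rw [← orderOf_eq_one_iff]
          obtain ⟨b, hb⟩ := IsPGroup.iff_orderOf.1 (TwoGroup.isPGroup_mulAut P.shape) (Φ ⟨_, hN⟩)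
          refine Nat.eq_one_of_dvd_coprimes ((Nat.prime_two.coprime_iff_not_dvd.2
            (BlockBasic.not_dvd_orderOf_pReg (p := 2) n)).pow_left b) (dvd_of_eq hb) ?_
          refine (orderOf_map_dvd _ _).trans ?_
          rw [Subgroup.orderOf_mk]
        have := MonoidHom.mem_ker.2 hΦ
        rw [Subgroup.normalizerMonoidHom_ker, Subgroup.mem_subgroupOf] at this
        exact this
    rw [← BlockBasic.pPart_mul_pReg (p := 2) n]
    exact mul_mem (mem_sup_left (hRW hsplit.1)) (mem_sup_right hsplit.2)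
  · exact fun r hr => hSylM (R.mapSurjective (f := q) (QuotientGroup.mk'_surjective _))
      (by rw [Sylow.coe_mapSurjective]; exact mem_map_of_mem q hr)
  · rintro _ ⟨s, rfl⟩
    exact hKM ⟨s, rfl⟩
  · intro d hd
    show q d ∈ M
    rw [hq0.2 hd]; exact one_mem _
  · intro s d hd he
    have h1 : linAut (dgl F c) = linAut (Matrix.SpecialLinearGroup.toGL s) := by
      rw [← hyconj, he, map_mul q, hq0.2 hd, mul_one, H5.EvenCyclic.linAut_toGL,
        ← H4.GW.actHom_symm eK, heK]
      rfl
    have h2 : (dgl F c) * (Matrix.SpecialLinearGroup.toGL s)⁻¹ ∈ (linAut (F := F)).ker := by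
      rw [MonoidHom.mem_ker, map_mul, map_inv, h1, mul_inv_cancel]
    obtain ⟨-, a, ha⟩ := H56.eq_of_semiAut_eq_one le_rfl (MonoidHom.mem_ker.1 h2)
    refine hc ⟨a, ?_⟩
    have hd' := congrArg (fun g : GL (Fin 2) F => (g : Matrix (Fin 2) (Fin 2) F).det)
      (mul_inv_eq_iff_eq_mul.1 ha)
    simp only [Units.val_mul, Matrix.det_mul, H5.EvenCyclic.dgl_coe, Matrix.det_fin_two_of] at hd'
    rw [show ((Matrix.SpecialLinearGroup.toGL s : GL (Fin 2) F) : Matrix (Fin 2) (Fin 2) F).det = 1
      from s.2] at hd'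
    simpa [pow_two] using hd'
  · intro w hw
    obtain ⟨g, hg⟩ := H4.GW.exists_lin eK (show q w ∈ M from hw)
    by_cases hsq : IsSquare ((Matrix.GeneralLinearGroup.det g : Fˣ) : F)
    · obtain ⟨c', hc'⟩ := H5.EvenCyclic.exists_sq_iff.1 hsq
      obtain ⟨s, hs'⟩ := H4.GW.mem_of_det_sq eK hC hg hc'
      refine ⟨s, (ι s)⁻¹ * w, ?_, Or.inl (mul_inv_cancel_left _ _).symm⟩
      rw [← hq0, map_mul, map_inv]; exact inv_mul_eq_one.2 hs'
    · obtain ⟨c', hc'⟩ := H5.EvenCyclic.exists_sq_of_not_sq P.odd (a := c⁻¹)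
        (fun h' => hc (by simpa using h'.inv)) hsq
      obtain ⟨s, hs'⟩ := H4.GW.mem_of_det_sq eK hC (y := (q y)⁻¹ * q w)
        (g := (dgl F c)⁻¹ * g) (by rw [map_mul, map_inv, hyconj, hg, map_mul, map_inv])
        (c := c') (by rw [map_mul, map_inv, H5.EvenCyclic.det_dgl]; exact hc')
      refine ⟨s, (ι s)⁻¹ * (y⁻¹ * w), ?_, Or.inr ?_⟩
      · rw [← hq0, map_mul, map_inv, map_mul, map_inv]; exact inv_mul_eq_one.2 hs'
      · rw [mul_inv_cancel_left, mul_inv_cancel_left]

end Cfsg.Agent.H57.Order.Local
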