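import Cfsg.Agent.H57.Order.Cover
import Cfsg.Agent.H57.Order.LocalShape
import Cfsg.Agent.H36.GUTwo.Table

/-!
# The two models of the linear part: `GL₂(q)` and `GU₂(q)`
-/

set_option autoImplicit false
set_option linter.style.haveILetI false
set_option linter.unusedSectionVars false

namespace Cfsg.Agent.H57.Order.Local

open Subgroup Cfsg.Agent.H53 Cfsg.Agent.H3.SDOrder
open Cfsg.Agent.H56 (SLn smat)
open Cfsg.Agent.H5.EvenCyclic (dgl dgl_coe)
open scoped Classical

universe u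

variable {X : Type u} [Group X] [Finite X] {R : Sylow 2 X} {F : Type} [Field F] [Fintype F]
  {ι : SLn 2 F →* X}

local notation "G2" => Matrix.GeneralLinearGroup (Fin 2) F

theorem two_dvd_of_nonsquare_gen {μ : Type} [CommGroup μ] [Finite μ] (h2 : 2 ∣ Nat.card μ) {g : μ}
    (hg : ∀ a : μ, a ∈ zpowers g) (a : μ) : a * a ≠ g := by
  intro h
  obtain ⟨k, rfl⟩ := hg a
  have h1 : g ^ (k + k - 1) = 1 := by
    rw [zpow_sub_one, zpow_add, h, mul_inv_cancel]
  have := orderOf_dvd_iff_zpow_eq_one.2 h1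
  rw [orderOf_eq_card_of_forall_mem_zpowers hg] at this
  have : (2 : ℤ) ∣ k + k - 1 := (Int.natCast_dvd_natCast.2 h2).trans this
  omega

theorem index_two_of {H : Type u} [Group H] (K : Subgroup H) {h₀ : H} (h₀K : h₀ ∉ K)
    (h : ∀ b, b ∈ K ∨ h₀⁻¹ * b ∈ K) (h2 : h₀ * h₀ ∈ K) : K.index = 2 := by
  refine index_eq_two_iff'.2 ⟨h₀⁻¹, fun b => xor_iff_iff_not.2 ?_⟩
  refine ⟨fun hb hK => h₀K ?_, fun hb => (h b).resolve_left hb⟩
  have := mul_mem hb (inv_mem hK)
  simpa using inv_mem this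

theorem scalar_sq (c : Fˣ) (h : SLn 2 F) (hh : (h : Matrix (Fin 2) (Fin 2) F) =
    (c : F)⁻¹ • (!![(c : F), 0; 0, 1] * !![(c : F), 0; 0, 1])) :
    dgl F c * dgl F c = scalarGL c * Matrix.SpecialLinearGroup.toGL h := by
  refine Units.ext ?_
  rw [Units.val_mul, Units.val_mul, dgl_coe, coe_scalarGL,
    show ((Matrix.SpecialLinearGroup.toGL h : G2) : Matrix (Fin 2) (Fin 2) F) = h.1 from rfl, hh]
  ext i j
  fin_cases i <;> fin_cases j <;> simp [Matrix.mul_apply, Fin.sum_univ_two]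

theorem conj_toGL (c : Fˣ) (s : SLn 2 F) :
    dgl F c * Matrix.SpecialLinearGroup.toGL s * (dgl F c)⁻¹ =
      Matrix.SpecialLinearGroup.toGL (conjD c s) := by
  refine Units.ext ?_
  rw [Units.val_mul, Units.val_mul]
  exact (smat_conjD c s).symm

theorem scalar_comm (a : Fˣ) (g : G2) : g * scalarGL a = scalarGL a * g := by
  refine Units.ext ?_
  rw [Units.val_mul, Units.val_mul, coe_scalarGL]
  ext i j
  fin_cases i <;> fin_cases j <;> simp [Matrix.mul_apply, Fin.sum_univ_two, mul_comm]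

theorem toGL_eq_scalar {s : SLn 2 F} {a : Fˣ}
    (h : Matrix.SpecialLinearGroup.toGL s = scalarGL a) : a * a = 1 := by
  have := congrArg Matrix.GeneralLinearGroup.det h
  rw [show Matrix.GeneralLinearGroup.det (Matrix.SpecialLinearGroup.toGL s) = (1 : Fˣ) from
    Units.ext s.2, H36.GUTwo.det_scalarGL] at this
  exact this.symm

theorem det_dgl (c : Fˣ) : Matrix.GeneralLinearGroup.det (dgl F c) = c := Units.ext (by
  rw [Matrix.GeneralLinearGroup.val_det_apply, dgl_coe, Matrix.det_fin_two_of]; simp)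

theorem unit_two (P : Ctx R ι) : (-1 : Fˣ) ≠ 1 := fun e => by
  have h' := congrArg (fun a : Fˣ => (a : F)) e
  simp at h'
  exact H4.GW.two_ne P.odd (by linear_combination -h')

theorem two_dvd_units (P : Ctx R ι) : 2 ∣ Nat.card Fˣ := by
  obtain ⟨k, hk⟩ := P.odd
  rw [Nat.card_eq_fintype_card, Fintype.card_units, hk]
  exact ⟨k, by omega⟩

/-- The linear model. -/
theorem exists_GL (P : Ctx R ι) (hd : Nat.card (zc R) ∣ Fintype.card F - 1)
    (ho : Odd ((Fintype.card F - 1) / Nat.card (zc R))) :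
    ∃ (c : Fˣ) (W : Subgroup X) (y z : X), ¬ IsSquare (c : F) ∧ Shape R ι c W y z ∧
      ∃ π : G2 →* W, Function.Surjective π ∧ π.ker ≤ center G2 ∧ Odd (Nat.card π.ker) ∧
        (π (scalarGL (-1)) : X) = ι (-1) := by
  obtain ⟨c, hc⟩ := IsCyclic.exists_generator (α := Fˣ)
  have hns : ∀ a : Fˣ, a * a ≠ c := two_dvd_of_nonsquare_gen (two_dvd_units P) hc
  have hcF : ¬ IsSquare (c : F) := fun ⟨r, hr⟩ => by
    have hr0 : r ≠ 0 := fun e => c.ne_zero (by rw [hr, e, mul_zero])
    exact hns (Units.mk0 r hr0) (Units.ext hr.symm)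
  obtain ⟨W, y, z, Sh⟩ := exists_shape P hcF
  let Φ : SLn 2 F × Fˣ →* G2 :=
    { toFun := fun p => Matrix.SpecialLinearGroup.toGL p.1 * scalarGL p.2
      map_one' := by
        rw [Prod.fst_one, Prod.snd_one, map_one, one_mul]
        exact map_one (scalarHom : Fˣ →* G2)
      map_mul' := fun p r => by
        rw [Prod.fst_mul, Prod.snd_mul, map_mul,
          show scalarGL (p.2 * r.2) = scalarGL p.2 * scalarGL r.2 from map_mul (scalarHom : Fˣ →* G2) _ _]
        exact (show Commute (Matrix.SpecialLinearGroup.toGL r.1) (scalarGL p.2) from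
          scalar_comm _ _).mul_mul_mul_comm _ _ }
  have hneg : Matrix.SpecialLinearGroup.toGL (-1 : SLn 2 F) = scalarGL (-1) := by
    refine Units.ext ?_
    rw [coe_scalarGL]
    ext i j
    fin_cases i <;> fin_cases j <;> simp
  have hΦε : Φ (-1, -1) = 1 := by
    show Matrix.SpecialLinearGroup.toGL (-1 : SLn 2 F) * scalarGL (-1 : Fˣ) = 1
    rw [hneg, ← show scalarGL ((-1 : Fˣ) * -1) = scalarGL (-1) * scalarGL (-1) from
      map_mul (scalarHom : Fˣ →* G2) _ _, neg_mul_neg, one_mul]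
    exact map_one (scalarHom : Fˣ →* G2)
  have hker : ∀ p, Φ p = 1 → p = 1 ∨ p = (-1, -1) := by
    rintro ⟨s, a⟩ hp
    have hs : Matrix.SpecialLinearGroup.toGL s = scalarGL a⁻¹ := by
      refine mul_right_cancel (b := scalarGL a) (hp.trans ?_)
      rw [← show scalarGL (a⁻¹ * a) = scalarGL a⁻¹ * scalarGL a from
        map_mul (scalarHom : Fˣ →* G2) _ _, inv_mul_cancel]
      exact (map_one (scalarHom : Fˣ →* G2)).symm
    have ha := toGL_eq_scalar hs
    rw [← mul_inv, inv_eq_one] at ha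
    have ha' : (a : F) * a = 1 := congrArg Units.val ha
    rcases mul_self_eq_one_iff.1 ha' with e | e
    · have : a = 1 := Units.ext e
      subst this
      left
      refine Prod.ext (Matrix.SpecialLinearGroup.toGL_injective ?_) rfl
      rw [hs, inv_one, Prod.fst_one, map_one]
      exact map_one (scalarHom : Fˣ →* G2)
    · have : a = -1 := Units.ext e
      subst this
      right
      refine Prod.ext (Matrix.SpecialLinearGroup.toGL_injective ?_) rfl
      rw [hs, hneg, inv_neg_one]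
  have hmem : ∀ g : G2, ∀ b : Fˣ, Matrix.GeneralLinearGroup.det g = b * b → g ∈ Φ.range := by
    intro g b hb
    have hdet : ((scalarGL b⁻¹ * g : G2) : Matrix (Fin 2) (Fin 2) F).det = 1 := by
      rw [← Matrix.GeneralLinearGroup.val_det_apply, map_mul, hb, H36.GUTwo.det_scalarGL]
      simp [mul_comm, mul_left_comm]
    refine ⟨(⟨_, hdet⟩, b), ?_⟩
    show Matrix.SpecialLinearGroup.toGL (⟨_, hdet⟩ : SLn 2 F) * scalarGL b = g
    rw [show Matrix.SpecialLinearGroup.toGL (⟨_, hdet⟩ : SLn 2 F) = scalarGL b⁻¹ * g from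
      Units.ext rfl]
    rw [scalar_comm, ← mul_assoc, ← show scalarGL (b * b⁻¹) = scalarGL b * scalarGL b⁻¹ from
      map_mul (scalarHom : Fˣ →* G2) _ _, mul_inv_cancel,
      show scalarGL (1 : Fˣ) = 1 from map_one (scalarHom : Fˣ →* G2), one_mul]
  have h₀S : dgl F c ∉ Φ.range := by
    rintro ⟨⟨s, a⟩, h⟩
    have := congrArg Matrix.GeneralLinearGroup.det h
    rw [det_dgl, show Φ (s, a) = Matrix.SpecialLinearGroup.toGL s * scalarGL a from rfl, map_mul,
      H36.GUTwo.det_scalarGL, show Matrix.GeneralLinearGroup.det (Matrix.SpecialLinearGroup.toGL s) =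
        (1 : Fˣ) from Units.ext s.2, one_mul] at this
    exact hns a this
  have hi : Φ.range.index = 2 := by
    refine index_two_of _ h₀S (fun g => ?_) (hmem _ c (by rw [map_mul, det_dgl]))
    by_cases hsq : IsSquare (Matrix.GeneralLinearGroup.det g : F)
    · obtain ⟨r, hr⟩ := hsq
      have hr0 : r ≠ 0 := fun e => (Matrix.GeneralLinearGroup.det g).ne_zero (by rw [hr, e, mul_zero])
      exact Or.inl (hmem g (Units.mk0 r hr0) (Units.ext hr))
    · obtain ⟨b, hb⟩ := H5.EvenCyclic.exists_sq_of_not_sq P.odd hsq hcF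
      refine Or.inr (hmem _ (b * c⁻¹) ?_)
      rw [map_mul, map_inv, det_dgl]
      have := hb
      apply Units.ext
      have := congrArg Units.val hb
      simp at this ⊢
      field_simp
      linear_combination this
  obtain ⟨π, hπs, hπc, hπo, hπι⟩ := Sh.exists_cover P Φ hker hΦε
    (orderOf_eq_prime (by rw [pow_two, neg_mul_neg, one_mul]) (unit_two P)) hc
    (by rwa [Nat.card_eq_fintype_card (α := Fˣ), Fintype.card_units])
    (by rwa [Nat.card_eq_fintype_card (α := Fˣ), Fintype.card_units])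
    (fun a => mem_center_iff.2 fun g => by
      show g * (Matrix.SpecialLinearGroup.toGL 1 * scalarGL a) =
        Matrix.SpecialLinearGroup.toGL 1 * scalarGL a * g
      rw [map_one, one_mul, scalar_comm])
    h₀S hi
    (fun s => by
      show dgl F c * (Matrix.SpecialLinearGroup.toGL s * scalarGL 1) * (dgl F c)⁻¹ =
        Matrix.SpecialLinearGroup.toGL (conjD c s) * scalarGL 1
      rw [show scalarGL (1 : Fˣ) = 1 from map_one (scalarHom : Fˣ →* G2), mul_one, mul_one, conj_toGL])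
    (fun h hh => by
      show dgl F c * dgl F c = Matrix.SpecialLinearGroup.toGL h * scalarGL c
      rw [scalar_sq c h hh, scalar_comm])
  refine ⟨c, W, y, z, hcF, Sh, π, hπs, hπc, hπo, ?_⟩
  rw [← hπι, ← hneg]
  congr 1
  refine congrArg π ?_
  show Matrix.SpecialLinearGroup.toGL (-1 : SLn 2 F) =
    Matrix.SpecialLinearGroup.toGL (-1 : SLn 2 F) * scalarGL 1
  rw [show scalarGL (1 : Fˣ) = 1 from map_one (scalarHom : Fˣ →* G2), mul_one]

section Unitary

open Cfsg.Agent.H36.GUTwo Cfsg.Agent.H36.TwoTori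

variable {δ : F} (hδ : ¬ IsSquare δ)

instance deltaHom_normal : (deltaHom hδ).range.Normal := ⟨fun n hn g => by
  obtain ⟨a, rfl⟩ := hn
  have : g * deltaHom hδ a = deltaHom hδ a * g :=
    Subtype.ext (Prod.ext (mul_comm _ _) (scalar_comm a _))
  rw [this, mul_inv_cancel_right]
  exact ⟨a, rfl⟩⟩

/-- The unitary group. -/
abbrev GUH : Type := Gam hδ ⧸ (deltaHom hδ).range

/-- Its covering. -/
noncomputable def guCover : H36.GUTwo.Cover hδ (GUH hδ) :=
  ⟨QuotientGroup.mk' _, QuotientGroup.mk'_surjective _, QuotientGroup.ker_mk' _⟩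

set_option maxHeartbeats 800000 in
/-- The unitary model. -/
theorem exists_GU (P : Ctx R ι) [Finite (GUH hδ)] (hd : Nat.card (zc R) ∣ Fintype.card F + 1)
    (ho : Odd ((Fintype.card F + 1) / Nat.card (zc R))) :
    ∃ (c : Fˣ) (W : Subgroup X) (y z : X), ¬ IsSquare (c : F) ∧ Shape R ι c W y z ∧
      ∃ π : GUH hδ →* W, Function.Surjective π ∧ π.ker ≤ center (GUH hδ) ∧ Odd (Nat.card π.ker) ∧
        ∀ e : NOne hδ, orderOf e = 2 → (π ((guCover hδ).T (e, e)) : X) = ι (-1) := by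
  haveI := isCyclic_quad hδ
  set C := guCover hδ with hC
  obtain ⟨μ₀, hμ₀⟩ := IsCyclic.exists_generator (α := NOne hδ)
  obtain ⟨l, hl⟩ := normA_surjective hδ μ₀
  set c : Fˣ := (normHom hδ l)⁻¹ with hcdef
  have h2N : 2 ∣ Nat.card (NOne hδ) := by
    obtain ⟨k, hk⟩ := P.odd
    rw [card_nOne hδ, hk]; exact ⟨k + 1, by omega⟩
  have hns : ∀ b : Fˣ, b * b ≠ c := by
    intro b hb
    have hmem : normHom hδ (l * scalUnit b) = 1 := by
      rw [map_mul, normHom_scal, hb, hcdef, mul_inv_cancel]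
    refine two_dvd_of_nonsquare_gen h2N hμ₀ ⟨_, hmem⟩ ?_
    rw [← normA_coe hδ, ← hl]
    show normA hδ (l * scalUnit b) = normA hδ l
    rw [map_mul, H36.GUTwo.normA_scal, mul_one]
  have hcF : ¬ IsSquare (c : F) := fun ⟨r, hr⟩ => by
    have hr0 : r ≠ 0 := fun e => c.ne_zero (by rw [hr, e, mul_zero])
    exact hns (Units.mk0 r hr0) (Units.ext hr.symm)
  obtain ⟨W, y, z, Sh⟩ := exists_shape P hcF
  have hdet : ∀ s : SLn 2 F,
      Matrix.GeneralLinearGroup.det (Matrix.SpecialLinearGroup.toGL s) = (1 : Fˣ) :=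
    fun s => Units.ext s.2
  let j : SLn 2 F × NOne hδ →* Gam hδ :=
    (((NOne hδ).subtype.comp (MonoidHom.snd _ _)).prod
      ((Matrix.SpecialLinearGroup.toGL).comp (MonoidHom.fst _ _))).codRestrict _ fun p =>
        mem_scal_mul (norm_one hδ p.2) (hdet p.1)
  let Φ : SLn 2 F × NOne hδ →* GUH hδ := C.π.comp j
  have hmemD : (l, dgl F c) ∈ Gam hδ := by rw [mem_Gam, det_dgl, hcdef, mul_inv_cancel]
  set h₀ : GUH hδ := C.π ⟨(l, dgl F c), hmemD⟩ with hh₀
  let ε : NOne hδ := ⟨scalUnit (-1), by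
    rw [MonoidHom.mem_ker, normHom_scal, neg_mul_neg, one_mul]⟩
  have hneg : Matrix.SpecialLinearGroup.toGL (-1 : SLn 2 F) = scalarGL (-1) := by
    refine Units.ext ?_
    rw [coe_scalarGL]
    ext i j
    fin_cases i <;> fin_cases j <;> simp
  have hΦε : Φ (-1, ε) = 1 := C.pi_eq_one.2 ⟨-1, Subtype.ext (Prod.ext
    (show (ε : (Quad δ)ˣ) = scalUnit (-1 : Fˣ)⁻¹ by rw [inv_neg_one]) hneg)⟩
  have hε1 : ε ≠ 1 := fun e => unit_two P (scalUnit_injective (δ := δ) (by
    rw [map_one]; exact congrArg Subtype.val e))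
  have hε2 : orderOf ε = 2 := orderOf_eq_prime (Subtype.ext (by
    show scalUnit (-1 : Fˣ) ^ 2 = 1
    rw [← map_pow, pow_two, neg_mul_neg, one_mul, map_one])) hε1
  have hker : ∀ p, Φ p = 1 → p = 1 ∨ p = (-1, ε) := by
    rintro ⟨s, a⟩ hp
    obtain ⟨b, hb⟩ := C.pi_eq_one.1 hp
    have h1 : (a : (Quad δ)ˣ) = scalUnit b⁻¹ := congrArg (fun x : Gam hδ => (x : (Quad δ)ˣ × G2).1) hb
    have h2 : Matrix.SpecialLinearGroup.toGL s = scalarGL b :=
      congrArg (fun x : Gam hδ => (x : (Quad δ)ˣ × G2).2) hb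
    have hb' : (b : F) * b = 1 := congrArg Units.val (toGL_eq_scalar h2)
    rcases mul_self_eq_one_iff.1 hb' with e | e
    · have : b = 1 := Units.ext e
      subst this
      left
      refine Prod.ext (Matrix.SpecialLinearGroup.toGL_injective ?_) (Subtype.ext ?_)
      · rw [h2, Prod.fst_one, map_one]; exact map_one (scalarHom : Fˣ →* G2)
      · rw [h1, inv_one, map_one]; rfl
    · have : b = -1 := Units.ext e
      subst this
      right
      refine Prod.ext (Matrix.SpecialLinearGroup.toGL_injective ?_) (Subtype.ext ?_)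
      · rw [h2, hneg]
      · rw [h1, inv_neg_one]
  have hmem : ∀ x : Gam hδ, ∀ b : Fˣ,
      Matrix.GeneralLinearGroup.det (x : (Quad δ)ˣ × G2).2 = b * b → C.π x ∈ Φ.range := by
    rintro ⟨⟨m, g⟩, hx⟩ b hb
    change Matrix.GeneralLinearGroup.det g = b * b at hb
    have hdg : ((scalarGL b⁻¹ * g : G2) : Matrix (Fin 2) (Fin 2) F).det = 1 := by
      rw [← Matrix.GeneralLinearGroup.val_det_apply, map_mul, hb, H36.GUTwo.det_scalarGL]
      simp [mul_comm, mul_left_comm]
    have hm : normHom hδ (m * scalUnit b) = 1 := by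
      rw [map_mul, normHom_scal, ← hb]; exact (mem_Gam hδ).1 hx
    refine ⟨(⟨_, hdg⟩, ⟨_, hm⟩), C.pi_eq_iff.2 ⟨b, ?_⟩⟩
    refine Subtype.ext (Prod.ext ?_ ?_)
    · show m = m * scalUnit b * scalUnit b⁻¹
      rw [mul_assoc, ← map_mul, mul_inv_cancel, map_one, mul_one]
    · show g = Matrix.SpecialLinearGroup.toGL (⟨_, hdg⟩ : SLn 2 F) * scalarGL b
      rw [show Matrix.SpecialLinearGroup.toGL (⟨_, hdg⟩ : SLn 2 F) = scalarGL b⁻¹ * g from
        Units.ext rfl, scalar_comm, ← mul_assoc, ← show scalarGL (b * b⁻¹) = scalarGL b * scalarGL b⁻¹ from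
        map_mul (scalarHom : Fˣ →* G2) _ _, mul_inv_cancel,
        show scalarGL (1 : Fˣ) = 1 from map_one (scalarHom : Fˣ →* G2), one_mul]
  have h₀S : h₀ ∉ Φ.range := by
    rintro ⟨⟨s, a⟩, h⟩
    obtain ⟨b, hb⟩ := C.pi_eq_iff.1 h.symm
    have h2 : Matrix.SpecialLinearGroup.toGL s = dgl F c * scalarGL b :=
      congrArg (fun x : Gam hδ => (x : (Quad δ)ˣ × G2).2) hb
    have := congrArg Matrix.GeneralLinearGroup.det h2
    rw [hdet, map_mul, det_dgl, H36.GUTwo.det_scalarGL] at this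
    exact hns b⁻¹ (by rw [← mul_inv, eq_inv_of_mul_eq_one_left this.symm])
  have hi : Φ.range.index = 2 := by
    refine index_two_of _ h₀S (fun g => ?_) ?_
    · obtain ⟨⟨⟨m, g⟩, hx⟩, rfl⟩ := C.surj g
      by_cases hsq : IsSquare (Matrix.GeneralLinearGroup.det g : F)
      · obtain ⟨r, hr⟩ := hsq
        have hr0 : r ≠ 0 := fun e =>
          (Matrix.GeneralLinearGroup.det g).ne_zero (by rw [hr, e, mul_zero])
        exact Or.inl (hmem _ (Units.mk0 r hr0) (Units.ext hr))
      · obtain ⟨b, hb⟩ := H5.EvenCyclic.exists_sq_of_not_sq P.odd hsq hcF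
        refine Or.inr ?_
        rw [hh₀, ← map_inv, ← map_mul]
        refine hmem _ (b * c⁻¹) ?_
        show Matrix.GeneralLinearGroup.det ((dgl F c)⁻¹ * g) = _
        rw [map_mul, map_inv, det_dgl]
        apply Units.ext
        have := congrArg Units.val hb
        simp at this ⊢
        field_simp
        linear_combination this
    · rw [hh₀, ← map_mul]
      refine hmem _ c ?_
      show Matrix.GeneralLinearGroup.det (dgl F c * dgl F c) = _
      rw [map_mul, det_dgl]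
  obtain ⟨π, hπs, hπc, hπo, hπι⟩ := Sh.exists_cover P Φ hker hΦε hε2 hμ₀
    (by rwa [card_nOne hδ]) (by rwa [card_nOne hδ])
    (fun a => mem_center_iff.2 fun g => by
      obtain ⟨x, rfl⟩ := C.surj g
      show C.π x * C.π (j (1, a)) = C.π (j (1, a)) * C.π x
      rw [← map_mul, ← map_mul]
      refine congrArg C.π (Subtype.ext (Prod.ext (mul_comm _ _) ?_))
      show _ * Matrix.SpecialLinearGroup.toGL (1 : SLn 2 F) =
        Matrix.SpecialLinearGroup.toGL (1 : SLn 2 F) * _
      rw [map_one, mul_one, one_mul])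
    h₀S hi
    (fun s => by
      show h₀ * C.π (j (s, 1)) * h₀⁻¹ = C.π (j (conjD c s, 1))
      rw [hh₀, ← map_mul, ← map_inv, ← map_mul]
      refine congrArg C.π (Subtype.ext (Prod.ext ?_ (conj_toGL c s)))
      show l * 1 * l⁻¹ = 1
      rw [mul_one, mul_inv_cancel])
    (fun h hh => by
      show h₀ * h₀ = C.π (j (h, μ₀))
      rw [hh₀, ← map_mul]
      refine C.pi_eq_iff.2 ⟨c⁻¹, Subtype.ext (Prod.ext ?_ ?_)⟩
      · show (μ₀ : (Quad δ)ˣ) = l * l * scalUnit c⁻¹⁻¹
        rw [← hl, coe_normA, inv_inv, hcdef, map_inv, scal_norm, div_eq_mul_inv, mul_inv,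
          mul_assoc l l, mul_inv_cancel_left]
      · show Matrix.SpecialLinearGroup.toGL h = dgl F c * dgl F c * scalarGL c⁻¹
        rw [scalar_sq c h hh, scalar_comm, ← mul_assoc, ← show scalarGL (c⁻¹ * c) =
          scalarGL c⁻¹ * scalarGL c from map_mul (scalarHom : Fˣ →* G2) _ _, inv_mul_cancel,
          show scalarGL (1 : Fˣ) = 1 from map_one (scalarHom : Fˣ →* G2), one_mul])
  refine ⟨c, W, y, z, hcF, Sh, π, hπs, hπc, hπo, fun e he => ?_⟩
  haveI : Finite (NOne hδ) := inferInstance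
  have hee : e = ε := by
    haveI : Fintype (NOne hδ) := Fintype.ofFinite _
    refine H84.SD.eq_of_mem_zpowers (hμ₀ e) (hμ₀ ε) ?_ ?_ ?_ hε1
    · rw [← pow_two, orderOf_dvd_iff_pow_eq_one.1 he.dvd]
    · rw [← pow_two, orderOf_dvd_iff_pow_eq_one.1 hε2.dvd]
    · exact fun h => by rw [h, orderOf_one] at he; omega
  subst hee
  rw [← hπι]
  refine congrArg (fun g => (π g : X)) ?_
  rw [C.T_diag]
  refine C.pi_eq_iff.2 ⟨-1, Subtype.ext (Prod.ext ?_ ?_)⟩
  · show (1 : (Quad δ)ˣ) = scalUnit (-1 : Fˣ) * scalUnit (-1 : Fˣ)⁻¹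
    rw [← map_mul, mul_inv_cancel, map_one]
  · show Matrix.SpecialLinearGroup.toGL (-1 : SLn 2 F) = (1 : G2) * scalarGL (-1)
    rw [one_mul, hneg]

end Unitary

end Cfsg.Agent.H57.Order.Local
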