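import Cfsg.Agent.H57.Order.Pairs
import Cfsg.Agent.H84.SD.Index
import Cfsg.Agent.H3.SDOrder.Provider

/-!
# The order formula, semidihedral case, for an arbitrary centraliser linked to a model
-/

set_option autoImplicit false
set_option linter.style.haveILetI false
set_option linter.unusedSectionVars false

namespace Cfsg.Agent.H57.Order

open Cfsg Cfsg.Agent.CharBasic Subgroup
open Cfsg.Agent.H3.SDOrder (involInd)
open scoped ComplexConjugate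

universe u v w

/-- The functions of the semidihedral order formula on a model group. -/
structure SDData (H : Type w) [Group H] [Fintype H] (e : H) (J : Type) [Fintype J] (Q : ℤ) where
  a₁ : H → ℂ
  a₂ : H → ℂ
  a₃ : J → H → ℂ
  s : J → ℤ
  hJ : 3 ≤ Fintype.card J
  hs : ∑ j, s j = -1
  hs2 : ∀ j, s j = 1 ∨ s j = -1
  gen : ∀ f, (f = a₁ ∨ f = a₂ ∨ ∃ j, f = a₃ j) → IsGeneralizedCharacter H f
  special : ∀ f, (f = a₁ ∨ f = a₂ ∨ ∃ j, f = a₃ j) → ∀ g, f g ≠ 0 → e ∈ zpowers g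
  g11 : classInner a₁ a₁ = 3
  g22 : classInner a₂ a₂ = 3
  g12 : classInner a₁ a₂ = 1
  g13 : ∀ j, classInner a₁ (a₃ j) = 2
  g23 : ∀ j, classInner a₂ (a₃ j) = 2
  g33 : ∀ j, classInner (a₃ j) (a₃ j) = 4
  g34 : ∀ j k, j ≠ k → classInner (a₃ j) (a₃ k) = 3
  one₁ : classInner a₁ (fun _ => 1) = 1
  one₂ : classInner a₂ (fun _ => 1) = 0
  one₃ : ∀ j, classInner (a₃ j) (fun _ => 1) = 1
  pairs₁ : (∑ g, ∑ h, involInd g * involInd h * a₁ (g * h)) =
    (((Q : ℂ) + 1) * Q) ^ 2 * (1 + (Q : ℂ)⁻¹)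
  pairs₂ : (∑ g, ∑ h, involInd g * involInd h * a₂ (g * h)) =
    (((Q : ℂ) + 1) * Q) ^ 2 * (1 + (Q : ℂ)⁻¹)
  pairs₃ : ∀ j, (∑ g, ∑ h, involInd g * involInd h * a₃ j (g * h)) =
    (((Q : ℂ) + 1) * Q) ^ 2 * 2
  perp : ∀ M : Ideal AlgInt, IsPModular 2 M → ∀ f, (f = a₁ ∨ f = a₂ ∨ ∃ j, f = a₃ j) →
    ∀ ψ : IrrCharacter H, ψ ∉ principalBlock M H → classInner f (ψ : H → ℂ) = 0
  column : ∀ M : Ideal AlgInt, IsPModular 2 M → ∀ ψ : IrrCharacter H, ψ ∈ principalBlock M H →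
    (Q : ℂ) * (classInner a₁ (ψ : H → ℂ) + classInner a₂ (ψ : H → ℂ)) +
      ((Q : ℂ) - 1) * ∑ j, (s j : ℂ) * classInner (a₃ j) (ψ : H → ℂ) = conj ((ψ : H → ℂ) e)

/-- The linear instance. -/
theorem exists_sdData_GL {F : Type w} [Field F] [Fintype F] [DecidableEq F]
    (hq : Fintype.card F % 4 = 3) :
    ∃ (J : Type) (_ : Fintype J), Nonempty (SDData (Matrix.GeneralLinearGroup (Fin 2) F)
      (H53.scalarGL (-1)) J (Fintype.card F : ℤ)) := by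
  obtain ⟨a, -, ⟨D⟩⟩ := H3.SDOrder.exists_glData hq
  exact ⟨_, inferInstance, ⟨{
    a₁ := D.a₁, a₂ := D.a₂, a₃ := D.a₃, s := D.s, hJ := D.hJ, hs := D.hs, hs2 := D.hs2
    gen := D.gen, special := D.special
    g11 := D.g11, g22 := D.g22, g12 := D.g12, g13 := D.g13, g23 := D.g23, g33 := D.g33
    g34 := D.g34, one₁ := D.one₁, one₂ := D.one₂, one₃ := D.one₃
    pairs₁ := by rw [D.pairs₁]; push_cast; rfl
    pairs₂ := by rw [D.pairs₂]; push_cast; rfl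
    pairs₃ := fun j => by rw [D.pairs₃]; push_cast; rfl
    perp := D.perp
    column := fun M hM ψ hψ => by push_cast; exact D.column M hM ψ hψ }⟩⟩

variable {G : Type u} [Group G] [Fintype G] {t : G} [Fintype (centralizer ({t} : Set G))]
  {Y : Type v} [Group Y] [Fintype Y] {H : Type w} [Group H] [Fintype H] {e : H} {M : Ideal AlgInt}
  {C0 : Subgroup (centralizer ({t} : Set G))} {ρ : C0 →* Y} {π : H →* Y}

theorem sd_order [IsSimpleGroup G] (hG : ¬ IsMulCommutative G) (ht : orderOf t = 2)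
    (hinv : ∀ a : centralizer ({t} : Set G), orderOf a = 2 → IsConj t (a : G))
    (S : Setup M C0 ρ π (⟨t, mem_centralizer_singleton_iff.2 rfl⟩ : centralizer ({t} : Set G)) e)
    (hc : π.ker ≤ center H) {o T : ℕ} (ho : ∀ y : Y, orderOf y = 2 → y ≠ π e → nover ρ y = o)
    {J : Type} [Fintype J] {Q : ℤ} (D : SDData H e J Q)
    (hcard : (T : ℤ) * o * Q * (Q + 1) = Nat.card (centralizer ({t} : Set G)))
    {p n : ℕ} [Fact p.Prime] (hp : p ≠ 2) (hn : 1 ≤ n) (hQp : Q.natAbs = p ^ n) (hQ4 : Q % 4 = 3)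
    (h2G : padicValNat 2 (Nat.card G) = padicValNat 2 (Q + 1).natAbs + 2)
    (h2C : padicValNat 2 (Nat.card (centralizer ({t} : Set G))) =
      padicValNat 2 (Q + 1).natAbs + 2)
    (h2T : padicValNat 2 T = 2)
    (hreg : 3 * padicValNat p (Nat.card (centralizer ({t} : Set G))) ≤
      padicValNat p (Nat.card G) + 2 * padicValNat p T) :
    (Nat.card G : ℤ) * (T : ℤ) ^ 2 * (Q + 1) ^ 2 =
      (Nat.card (centralizer ({t} : Set G)) : ℤ) ^ 3 * (Q ^ 2 + Q + 1) := by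
  classical
  set C := centralizer ({t} : Set G) with hCdef
  set N : ℚ := (Nat.card C : ℚ) with hN
  have hN0 : N ≠ 0 := Nat.cast_ne_zero.2 Nat.card_pos.ne'
  have hT : T ≠ 0 := fun h => by
    rw [h] at hcard
    simp only [Nat.cast_zero, zero_mul] at hcard
    exact Nat.card_pos.ne' (by exact_mod_cast hcard.symm)
  have hQ0 : Q ≠ 0 := by omega
  have hQ0' : (Q : ℚ) ≠ 0 := Int.cast_ne_zero.2 hQ0
  set R : ℚ := (o : ℚ) ^ 2 * (((Q : ℚ) + 1) * Q) ^ 2 with hR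
  have hNeq : N = (T : ℚ) * o * Q * (Q + 1) := by rw [hN]; exact_mod_cast hcard.symm
  -- inputs on the model
  have hB : ∀ f, (f = D.a₁ ∨ f = D.a₂ ∨ ∃ j, f = D.a₃ j) → InB0 M f := fun f hf =>
    ⟨CharInduce.IsGen.isClassFunction (D.gen f hf), D.perp M S.hM f hf⟩
  have m₁ : D.a₁ = D.a₁ ∨ D.a₁ = D.a₂ ∨ ∃ j, D.a₁ = D.a₃ j := Or.inl rfl
  have m₂ : D.a₂ = D.a₁ ∨ D.a₂ = D.a₂ ∨ ∃ j, D.a₂ = D.a₃ j := Or.inr (Or.inl rfl)
  have m₃ : ∀ j, D.a₃ j = D.a₁ ∨ D.a₃ j = D.a₂ ∨ ∃ i, D.a₃ j = D.a₃ i := fun j =>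
    Or.inr (Or.inr ⟨j, rfl⟩)
  have hsp : ∀ f, (f = D.a₁ ∨ f = D.a₂ ∨ ∃ j, f = D.a₃ j) → H84.SD.Special (S.lift f) := by
    intro f hf x hx
    obtain ⟨k, hk⟩ := S.lift_special (hB f hf) (D.special f hf) x hx
    exact ⟨k, congrArg Subtype.val hk⟩
  have hperp : ∀ f : H → ℂ, ∀ ψ : IrrCharacter C, ψ ∉ principalBlock M C →
      classInner (S.lift f) (ψ : C → ℂ) = 0 := fun f ψ hψ => (S.inB0_lift f).2 ψ hψ
  have hpairs : ∀ f, (f = D.a₁ ∨ f = D.a₂ ∨ ∃ j, f = D.a₃ j) → ∀ r : ℚ,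
      (∑ g, ∑ h, involInd g * involInd h * f (g * h)) = (r : ℂ) →
      ∑ x : C, conj (S.lift f x) * (H84.SD.pairs t x : ℂ) =
        (Nat.card C : ℂ) * (((o : ℚ) ^ 2 * r / N : ℚ) : ℂ) := by
    intro f hf r hr
    refine (sum_conj_pairs (S.lift f)).trans ?_
    rw [S.pairs_lift (hB f hf) (D.special f hf) hc ho, hr, hN]
    simp only [map_mul, map_pow, map_natCast]
    rw [show conj (r : ℂ) = (r : ℂ) from
      (by rw [show ((r : ℂ)) = ((r : ℝ) : ℂ) by push_cast; rfl, Complex.conj_ofReal])]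
    push_cast
    have : (Nat.card C : ℂ) ≠ 0 := Nat.cast_ne_zero.2 Nat.card_pos.ne'
    field_simp
  refine H84.SD.order_regular hG ht hinv D.hJ (P := R * (1 + (Q : ℚ)⁻¹) / N) (P₃ := R * 2 / N)
    ⟨S.lift D.a₁, S.lift D.a₂, fun j => S.lift (D.a₃ j), D.s, D.hs, D.hs2,
      S.lift_gen (D.gen _ m₁), S.lift_gen (D.gen _ m₂), fun j => S.lift_gen (D.gen _ (m₃ j)),
      hsp _ m₁, hsp _ m₂, fun j => hsp _ (m₃ j),
      by rw [S.inner_lift_lift (hB _ m₁), D.g11], by rw [S.inner_lift_lift (hB _ m₂), D.g22],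
      by rw [S.inner_lift_lift (hB _ m₁), D.g12],
      fun j => by rw [S.inner_lift_lift (hB _ m₁), D.g13],
      fun j => by rw [S.inner_lift_lift (hB _ m₂), D.g23],
      fun j => by rw [S.inner_lift_lift (hB _ (m₃ j)), D.g33],
      fun j k hjk => by rw [S.inner_lift_lift (hB _ (m₃ j)), D.g34 j k hjk],
      by rw [S.lift_one, D.one₁], by rw [S.lift_one, D.one₂],
      fun j => by rw [S.lift_one, D.one₃], ?_, ?_, ?_, ?_⟩
    hT ?_ ?_ hp hn hQp hQ4 h2G h2C h2T hreg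
  · refine (hpairs _ m₁ ((((Q : ℚ) + 1) * Q) ^ 2 * (1 + (Q : ℚ)⁻¹))
      (by rw [D.pairs₁]; push_cast; rfl)).trans ?_
    rw [hR]; congr 2; ring
  · refine (hpairs _ m₂ ((((Q : ℚ) + 1) * Q) ^ 2 * (1 + (Q : ℚ)⁻¹))
      (by rw [D.pairs₂]; push_cast; rfl)).trans ?_
    rw [hR]; congr 2; ring
  · intro j
    refine (hpairs _ (m₃ j) ((((Q : ℚ) + 1) * Q) ^ 2 * 2)
      (by rw [D.pairs₃]; push_cast; rfl)).trans ?_
    rw [hR]; congr 2; ring
  · intro χ hχ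
    have hmem : χ ∈ principalBlock M G := by
      rcases hχ with h | h | ⟨j, h⟩
      · exact H3.SDOrder.mem_principal_of_coeff_ne_zero S.hM ht (hsp _ m₁) (hperp _) h
      · exact H3.SDOrder.mem_principal_of_coeff_ne_zero S.hM ht (hsp _ m₂) (hperp _) h
      · exact H3.SDOrder.mem_principal_of_coeff_ne_zero S.hM ht (hsp _ (m₃ j)) (hperp _) h
    rw [H3.SDOrder.value_eq_sum S.hM ht hmem
      (Sum.elim (fun _ : Fin 2 => (Q : ℂ)) fun j => ((Q : ℂ) - 1) * (D.s j : ℂ))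
      (Sum.elim ![S.lift D.a₁, S.lift D.a₂] fun j => S.lift (D.a₃ j)) fun ψ => ?_]
    · simp only [Fintype.sum_sum_type, Fin.sum_univ_two, Sum.elim_inl, Sum.elim_inr,
        Matrix.cons_val_zero, Matrix.cons_val_one, Finset.mul_sum, mul_add, mul_assoc]
    simp only [Fintype.sum_sum_type, Fin.sum_univ_two, Sum.elim_inl, Sum.elim_inr,
      Matrix.cons_val_zero, Matrix.cons_val_one]
    split_ifs with hψ
    · simp only [S.inner_lift, if_pos hψ]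
      rw [← S.res_at_t hψ, ← D.column M S.hM _ (S.res_mem hψ), mul_add, Finset.mul_sum]
      simp only [mul_assoc]
    · simp [hperp _ ψ hψ]
  · rw [← hN, hR]
    field_simp
    rw [hNeq]
    ring
  · rw [← hN, hR]
    field_simp
    rw [hNeq]
    ring

end Cfsg.Agent.H57.Order
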