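import Cfsg.Agent.H57.Order.Base

/-!
# The transfer setting on the linear part, and the count of the involutions of `C(t)`
-/

set_option autoImplicit false
set_option linter.style.haveILetI false
set_option linter.unusedSectionVars false

namespace Cfsg.Agent.H57.Order

open Subgroup Cfsg.Agent.H57.Order.Local
open Cfsg.Agent.H56 (SLn)

universe u v w

variable {C : Type u} [Group C] [Fintype C] {X : Type v} [Group X] [Fintype X] (q : C →* X)
  (W : Subgroup X)

/-- The map of the preimage onto `W`. -/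
abbrev rho : W.comap q →* W := q.subgroupComap W

variable {q W}

theorem rho_surj (hq : Function.Surjective q) : Function.Surjective (rho q W) := fun w => by
  obtain ⟨a, ha⟩ := hq (w : X)
  exact ⟨⟨a, show q a ∈ W from ha ▸ w.2⟩, Subtype.ext ha⟩

theorem rho_odd (hodd : Odd (Nat.card q.ker)) : Odd (Nat.card (rho q W).ker) := by
  let j : (rho q W).ker →* q.ker :=
    { toFun := fun x => ⟨(x.1 : C), show q (x.1 : C) = 1 from congrArg Subtype.val x.2⟩
      map_one' := rfl
      map_mul' := fun _ _ => rfl }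
  exact hodd.of_dvd_nat (Subgroup.card_dvd_of_injective j fun a b h =>
    Subtype.ext (Subtype.ext (congrArg (fun x : q.ker => (x : C)) h)))

variable {R : Sylow 2 X} {F : Type} [Field F] [Fintype F] {ι : SLn 2 F →* X} {c : Fˣ} {y z : X}

/-- The setting of the transfer. -/
theorem setup_of_shape (hq : Function.Surjective q) (hodd : Odd (Nat.card q.ker)) (P : Sylow 2 C)
    (hR : (R : Subgroup X) = (P : Subgroup C).map q) (Sh : Shape R ι c W y z) {t : C}
    (ht : orderOf t = 2) (htc : t ∈ center C) (htmem : t ∈ W.comap q) {H : Type w} [Group H] [Finite H]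
    (π : H →* W) (hπ : Function.Surjective π) (hπodd : Odd (Nat.card π.ker)) {e : H}
    (he : orderOf e = 2) (hec : e ∈ center H) (heq : (π e : X) = q t) {M : Ideal Cfsg.AlgInt}
    (hM : Cfsg.IsPModular 2 M) : Setup M (W.comap q) (rho q W) π t e where
  hM := hM
  normal := Sh.normal.comap q
  index := by rw [index_comap_of_surjective _ hq]; exact Sh.index
  sup := ⟨P, sup_comap q hq hodd P W (by rw [← hR]; exact Sh.sup)⟩
  ρ_surj := rho_surj hq
  ρ_odd := rho_odd hodd
  π_surj := hπ
  π_odd := hπodd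
  t_order := ht
  t_center := htc
  e_order := he
  e_center := hec
  t_mem := htmem
  compat := Subtype.ext heq.symm

/-- The involutions of `C` other than the central one: one class, counted fibre by fibre. -/
theorem exists_count (P : Ctx R ι) (hc : ¬ IsSquare (c : F)) (Sh : Shape R ι c W y z)
    (hq : Function.Surjective q) (hodd : Odd (Nat.card q.ker)) {t : C} (ht : orderOf t = 2)
    (htc : t ∈ center C) (htι : q t = ι (-1)) {u : C} (hu : orderOf u = 2) (hut : u ≠ t) :
    ∃ o : ℕ, (∀ w : W, orderOf w = 2 → (w : X) ≠ ι (-1) → nover (rho q W) w = o) ∧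
      (o : ℤ) * ((Fintype.card F : ℤ) * ((Fintype.card F : ℤ) +
          if (Nat.card (zc R) = 2 ↔ Fintype.card F % 4 = 3) then 1 else -1)) *
        Nat.card (centralizer ({u} : Set C)) = Nat.card C := by
  classical
  have ht2 : t * t = 1 := by rw [← pow_two, ← ht, pow_orderOf_eq_one]
  have hmemW : ∀ {a : C}, orderOf a = 2 → q a ∈ W := fun {a} ha => by
    haveI := Sh.normal
    rw [← QuotientGroup.eq_one_iff, ← orderOf_eq_one_iff]
    refine Nat.eq_one_of_dvd_coprimes ((Nat.prime_two.coprime_iff_not_dvd).2 Sh.index) ?_ ?_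
    · rw [orderOf_dvd_iff_pow_eq_one, ← QuotientGroup.mk_pow, ← map_pow,
        show a ^ 2 = 1 from orderOf_dvd_iff_pow_eq_one.1 ha.dvd, map_one]; rfl
    · rw [Subgroup.index_eq_card]; exact orderOf_dvd_natCard _
  have hne : ∀ {a : C}, orderOf a = 2 → a ≠ t → q a ≠ ι (-1) := fun {a} ha hat h => by
    refine hat (eq_of_central q hodd ht2 htc ?_ (h.trans htι.symm))
    rw [← pow_two, ← ha, pow_orderOf_eq_one]
  have hord : ∀ {a : C} (ha : orderOf a = 2), orderOf (⟨q a, hmemW ha⟩ : W) = 2 := fun {a} ha => by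
    rw [Subgroup.orderOf_mk]; exact map_invol q hodd ha
  -- all of them are conjugate
  have hconj : ∀ {a : C}, orderOf a = 2 → a ≠ t → IsConj u a := fun {a} ha hat => by
    obtain ⟨w, hw⟩ := isConj_iff.1 (Sh.isConj_invol P (hord hu) (hne hu hut) (hord ha) (hne ha hat))
    obtain ⟨g, hg⟩ := hq (w : X)
    have h1 : q (g * u * g⁻¹) = q a := by
      rw [map_mul, map_mul, map_inv, hg]; exact congrArg Subtype.val hw
    refine (isConj_iff.2 ⟨g, rfl⟩).trans (isConj_of_map_eq q hodd ?_ ?_ h1)
    · rw [conj_mul, ← pow_two u, orderOf_dvd_iff_pow_eq_one.1 hu.dvd, mul_one, mul_inv_cancel]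
    · rw [← pow_two, orderOf_dvd_iff_pow_eq_one.1 ha.dvd]
  set o := nover (rho q W) (⟨q u, hmemW hu⟩ : W) with ho
  have hconst : ∀ w : W, orderOf w = 2 → (w : X) ≠ ι (-1) → nover (rho q W) w = o := fun w hw hwt => by
    obtain ⟨g, hg⟩ := isConj_iff.1 (Sh.isConj_invol P (hord hu) (hne hu hut) hw hwt)
    rw [← hg, nover_conj _ _ _ (rho_surj hq)]
  refine ⟨o, hconst, ?_⟩
  rw [← Sh.card_invol P hc]
  -- the fibres
  let e : (Σ w : {w : W // orderOf w = 2 ∧ (w : X) ≠ ι (-1)},
      {x : W.comap q // orderOf x = 2 ∧ rho q W x = w.1}) ≃ {a : C // orderOf a = 2 ∧ a ≠ t} :=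
    { toFun := fun p => ⟨(p.2.1 : C), by rw [Subgroup.orderOf_coe]; exact p.2.2.1, fun h =>
        p.1.2.2 ((congrArg Subtype.val p.2.2.2).symm.trans ((congrArg q h).trans htι))⟩
      invFun := fun a => ⟨⟨⟨q a.1, hmemW a.2.1⟩, hord a.2.1, hne a.2.1 a.2.2⟩,
        ⟨⟨a.1, hmemW a.2.1⟩, (Subgroup.orderOf_mk _ _).trans a.2.1, rfl⟩⟩
      left_inv := fun p => by
        obtain ⟨⟨w, hw⟩, x, hx, hxw⟩ := p
        change rho q W x = w at hxw
        subst hxw
        rfl
      right_inv := fun a => rfl }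
  have h1 : Nat.card {a : C // orderOf a = 2 ∧ a ≠ t} =
      Nat.card {w : W // orderOf w = 2 ∧ (w : X) ≠ ι (-1)} * o := by
    rw [← Nat.card_congr e, Nat.card_sigma, Finset.sum_congr rfl fun (w : {w : W // orderOf w = 2 ∧ (w : X) ≠ ι (-1)}) _ =>
      show Nat.card {x : W.comap q // orderOf x = 2 ∧ rho q W x = w.1} = o from hconst w.1 w.2.1 w.2.2,
      Finset.sum_const, Finset.card_univ, Nat.card_eq_fintype_card, smul_eq_mul]
  -- the class
  let f : C ⧸ centralizer ({u} : Set C) → {a : C // orderOf a = 2 ∧ a ≠ t} := fun x =>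
    Quotient.liftOn' x (fun g => ⟨g * u * g⁻¹, by
        rw [show g * u * g⁻¹ = MulAut.conj g u from rfl, MulEquiv.orderOf_eq]; exact hu, fun h =>
        hut (by
          rw [mul_inv_eq_iff_eq_mul, ← mem_center_iff.1 htc g] at h
          exact mul_left_cancel h)⟩)
      (fun a b hab => by
        rw [QuotientGroup.leftRel_apply, mem_centralizer_singleton_iff] at hab
        refine Subtype.ext ?_
        calc a * u * a⁻¹ = a * (u * (a⁻¹ * b)) * b⁻¹ := by group
          _ = a * (a⁻¹ * b * u) * b⁻¹ := by rw [hab]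
          _ = b * u * b⁻¹ := by group)
  have hf : Function.Bijective f := by
    refine ⟨?_, fun a => ?_⟩
    · rintro ⟨a⟩ ⟨b⟩ h
      refine QuotientGroup.eq.2 (mem_centralizer_singleton_iff.2 ?_)
      have h' : a * u * a⁻¹ = b * u * b⁻¹ := congrArg Subtype.val h
      calc a⁻¹ * b * u = a⁻¹ * (b * u * b⁻¹) * b := by group
        _ = a⁻¹ * (a * u * a⁻¹) * b := by rw [h']
        _ = u * (a⁻¹ * b) := by group
    · obtain ⟨g, hg⟩ := isConj_iff.1 (hconj a.2.1 a.2.2)
      exact ⟨QuotientGroup.mk g, Subtype.ext hg⟩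
  have h2 := (centralizer ({u} : Set C)).index_mul_card
  rw [Subgroup.index_eq_card, Nat.card_congr (Equiv.ofBijective f hf), h1] at h2
  rw [← h2]
  push_cast
  ring

theorem card_centralizer_four {G : Type u} [Group G] {U : Subgroup G} (hU : IsKleinFour U) {z u : G}
    (hzU : z ∈ U) (huU : u ∈ U) (hz : z ≠ 1) (hu : u ≠ 1) (hzu : u ≠ z)
    (huC : u ∈ centralizer ({z} : Set G)) :
    Nat.card (centralizer (U : Set G)) =
      Nat.card (centralizer ({(⟨u, huC⟩ : centralizer ({z} : Set G))} :
        Set (centralizer ({z} : Set G)))) := by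
  have hU4 := hU.card_four
  have hUmem : ∀ x ∈ U, x = 1 ∨ x = z ∨ x = u ∨ x = z * u := by
    intro x hx
    by_contra! h
    haveI : Finite U := Nat.finite_of_card_ne_zero (by omega)
    have hzu1 : z * u ≠ 1 := fun e => hzu ((eq_inv_of_mul_eq_one_right e).trans
      (inv_eq_of_mul_eq_one_right (H39.klein_mul_self hU hzU)))
    have hinj : Function.Injective (![⟨1, one_mem U⟩, ⟨z, hzU⟩, ⟨u, huU⟩, ⟨z * u, mul_mem hzU huU⟩,
        ⟨x, hx⟩] : Fin 5 → U) := by
      intro i j hij
      have hij' := congrArg Subtype.val hij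
      fin_cases i <;> fin_cases j <;>
        simp [Ne.symm hz, hz, hu, Ne.symm hu, hzu, Ne.symm hzu, hzu1, Ne.symm hzu1, h.1, Ne.symm h.1,
          h.2.1, Ne.symm h.2.1, h.2.2.1, Ne.symm h.2.2.1, h.2.2.2, Ne.symm h.2.2.2] at hij' ⊢
    have := Nat.card_le_card_of_injective _ hinj
    rw [hU4] at this
    simp at this
  refine Nat.card_congr
    { toFun := fun g => ⟨⟨g.1, mem_centralizer_singleton_iff.2 (mem_centralizer_iff.1 g.2 z hzU).symm⟩,
        mem_centralizer_singleton_iff.2 (Subtype.ext (mem_centralizer_iff.1 g.2 u huU).symm)⟩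
      invFun := fun g => ⟨(g.1 : G), mem_centralizer_iff.2 fun x hx => by
        have h1 : Commute (g.1 : G) z := mem_centralizer_singleton_iff.1 g.1.2
        have h2 : Commute (g.1 : G) u :=
          congrArg Subtype.val (mem_centralizer_singleton_iff.1 g.2)
        rcases hUmem x hx with rfl | rfl | rfl | rfl
        · simp
        · exact h1.symm.eq
        · exact h2.symm.eq
        · exact (h1.mul_right h2).symm.eq⟩
      left_inv := fun g => rfl
      right_inv := fun g => rfl }

end Cfsg.Agent.H57.Order
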