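import Cfsg.Agent.H84.QDCent.TwoGroup
import Cfsg.Agent.S1193
import Cfsg.Agent.S1197
import Cfsg.Agent.S1202
import Cfsg.Agent.S3116
import Cfsg.Agent.H63.GW.Hereditary
import Cfsg.Agent.PGroups.TwoGroups

/-!
# Facts on semidihedral and wreathed groups
-/

set_option autoImplicit false
set_option linter.style.haveILetI false
set_option linter.unusedSectionVars false

namespace Cfsg.Agent.H57.Order.TwoGroup

open Subgroup

universe u

variable {S : Type u} [Group S] [Finite S]

/-- What centralises a non-abelian subgroup is central. -/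
theorem mem_center_of_centralizes (hS : Cfsg.IsQuasiDihedral S ∨ Cfsg.IsWreathed S) {Q : Subgroup S}
    {a b : S} (ha : a ∈ Q) (hb : b ∈ Q) (hab : ¬ Commute a b) {c : S} (hc : ∀ q ∈ Q, Commute c q) :
    c ∈ center S := by
  obtain ⟨⟨B, hB, hB2⟩, -⟩ := H84.QDCent.abelian_and_commutator hS
  haveI := hB
  have habel : ∀ p ∈ B, ∀ q ∈ B, Commute p q := fun p hp q hq =>
    congrArg (fun z : B => (z : S)) (mul_comm' (⟨p, hp⟩ : B) ⟨q, hq⟩)
  have key : ∀ {d : S}, d ∉ B → ∀ {g : S}, (∀ q ∈ B, Commute g q) → Commute g d → g ∈ center S := by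
    intro d hd g hgB hgd
    rw [mem_center_iff]
    intro s
    by_cases hs : s ∈ B
    · exact (hgB s hs).symm.eq
    · have : s * d⁻¹ ∈ B := (mul_mem_iff_of_index_two hB2).2 (iff_of_false hs (by simpa using hd))
      have h2 := (hgB _ this).mul_right hgd
      rw [inv_mul_cancel_right] at h2
      exact h2.symm.eq
  obtain ⟨q, hq, hqB⟩ : ∃ q ∈ Q, q ∉ B := by
    by_contra! h
    exact hab (habel a (h a ha) b (h b hb))
  by_cases hcB : c ∈ B
  · exact key hqB (fun p hp => habel c hcB p hp) (hc q hq)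
  · exfalso
    have hcen : ∀ p ∈ Q, p ∈ B → p ∈ center S := fun p hp hpB =>
      key hcB (fun r hr => habel p hpB r hr) (hc p hp).symm
    refine hab ?_
    have hdec : ∀ p ∈ Q, ∃ z ∈ center S, p = z ∨ p = z * q := fun p hp => by
      by_cases hpB : p ∈ B
      · exact ⟨p, hcen p hp hpB, Or.inl rfl⟩
      · refine ⟨p * q⁻¹, hcen _ (mul_mem hp (inv_mem hq))
          ((mul_mem_iff_of_index_two hB2).2 (iff_of_false hpB (by simpa using hqB))), Or.inr ?_⟩
        rw [inv_mul_cancel_right]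
    have hzc : ∀ z ∈ center S, ∀ s, Commute z s := fun z hz s => (mem_center_iff.1 hz s).symm
    obtain ⟨z, hz, rfl | rfl⟩ := hdec a ha
    · exact hzc _ hz b
    obtain ⟨w, hw, rfl | rfl⟩ := hdec b hb
    · exact (hzc _ hw _).symm
    · exact (hzc z hz _).mul_left (((hzc w hw q).symm).mul_right (Commute.refl q))

theorem card_center_cases (hS : Cfsg.IsQuasiDihedral S ∨ Cfsg.IsWreathed S) :
    IsCyclic (center S) ∧
    ((Cfsg.IsQuasiDihedral S ∧ ∃ n, 3 ≤ n ∧ Nat.card S = 2 ^ (n + 1) ∧ Nat.card (center S) = 2) ∨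
      (Cfsg.IsWreathed S ∧ ∃ n, 2 ≤ n ∧ Nat.card S = 2 ^ (2 * n + 1) ∧
        Nat.card (center S) = 2 ^ n)) := by
  haveI : Fact (Nat.Prime 2) := ⟨Nat.prime_two⟩
  rcases hS with hS | hS
  · obtain ⟨m, x, y, h⟩ := H39.exists_sdGen hS
    have hc := (S1193.result hS (m + 3) h.card).2.2.2.1
    exact ⟨isCyclic_of_prime_card hc, Or.inl ⟨hS, m + 3, by omega, h.card, hc⟩⟩
  · obtain ⟨n, hn, hc, hrest⟩ := hS
    have h := S1197.result ⟨n, hn, hc, hrest⟩ n hc
    exact ⟨h.1, Or.inr ⟨⟨n, hn, hc, hrest⟩, n, hn, hc, h.2.1⟩⟩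

theorem isPGroup (hS : Cfsg.IsQuasiDihedral S ∨ Cfsg.IsWreathed S) : IsPGroup 2 S := by
  rcases (card_center_cases hS).2 with ⟨-, n, -, h, -⟩ | ⟨-, n, -, h, -⟩
  · exact IsPGroup.of_card h
  · exact IsPGroup.of_card h

/-- The quotient by the centre is dihedral. -/
theorem dtype_quotient (hS : Cfsg.IsQuasiDihedral S ∨ Cfsg.IsWreathed S) :
    H63.GW.DType (S ⧸ center S) := by
  rcases hS with hS | hS
  · obtain ⟨m, x, y, h⟩ := H39.exists_sdGen hS
    obtain ⟨-, hcase⟩ := card_center_cases (Or.inl hS)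
    have hc : Nat.card (center S) = 2 := (S1193.result hS (m + 3) h.card).2.2.2.1
    have hcx : center S = zpowers (x ^ (4 * 2 ^ m : ℤ)) := by
      symm
      refine Subgroup.eq_of_le_of_card_ge (zpowers_le.2 (mem_center_iff.2 h.z_central)) ?_
      have hne : x ^ (4 * 2 ^ m : ℤ) ≠ 1 := by
        intro he
        rw [← zpow_zero x, h.zpow_eq] at he
        obtain ⟨c, hc'⟩ := he
        have hM : (0 : ℤ) < 2 ^ m := by positivity
        have : (1 : ℤ) = 2 * c := mul_left_cancel₀ (show (4 * 2 ^ m : ℤ) ≠ 0 by positivity)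
          (by linarith)
        omega
      have h2 : (x ^ (4 * 2 ^ m : ℤ)) ^ 2 = 1 := by
        rw [← zpow_natCast, ← zpow_mul, ← zpow_zero x, h.zpow_eq]; exact ⟨1, by push_cast; ring⟩
      rw [hc, Nat.card_zpowers, orderOf_eq_prime h2 hne]
    refine Or.inr ⟨2 ^ (m + 2), by rw [pow_add]; have := Nat.one_le_two_pow (n := m); omega, ?_⟩
    haveI : NeZero (2 ^ (m + 2)) := ⟨by positivity⟩
    have hcard : Nat.card (S ⧸ center S) = 2 * 2 ^ (m + 2) := by
      have := (center S).card_eq_card_quotient_mul_card_subgroup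
      rw [h.card, hc] at this
      have e : 2 ^ (m + 4) = 2 * 2 ^ (m + 2) * 2 := by ring
      omega
    have hmem : ∀ i : ℤ, (x ^ i : S) ∈ center S ↔ (4 * 2 ^ m : ℤ) ∣ i := fun i => by
      rw [hcx]
      constructor
      · rintro ⟨j, hj⟩
        change (x ^ (4 * 2 ^ m : ℤ)) ^ j = x ^ i at hj
        rw [← zpow_mul, h.zpow_eq] at hj
        have h4 : (4 * 2 ^ m : ℤ) ∣ 4 * 2 ^ m * j - i :=
          (dvd_mul_left _ 2 |>.trans (dvd_of_eq (by ring : 2 * (4 * 2 ^ m : ℤ) = 8 * 2 ^ m))).trans hj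
        simpa using (dvd_mul_right (4 * 2 ^ m : ℤ) j).sub h4
      · rintro ⟨j, rfl⟩
        exact ⟨j, (zpow_mul x _ j).symm⟩
    refine PGroups.nonempty_mulEquiv_dihedral (c := (x : S ⧸ center S)) (y := (y : S ⧸ center S))
      ?_ ?_ ?_ ?_ hcard
    · refine orderOf_eq_prime_pow (p := 2) ?_ ?_
      · rw [← QuotientGroup.mk_pow, QuotientGroup.eq_one_iff, ← zpow_natCast, hmem]
        rintro ⟨c, hc'⟩
        have hM : (0 : ℤ) < 2 ^ m := by positivity
        have : (1 : ℤ) = 2 * c := mul_left_cancel₀ (show (2 * 2 ^ m : ℤ) ≠ 0 by positivity)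
          (by push_cast [pow_succ] at hc'; linarith)
        omega
      · rw [← QuotientGroup.mk_pow, QuotientGroup.eq_one_iff, ← zpow_natCast, hmem]
        exact ⟨1, by push_cast; ring⟩
    · rintro ⟨i, hi⟩
      change (x : S ⧸ center S) ^ i = y at hi
      rw [← QuotientGroup.mk_zpow, QuotientGroup.eq, hcx] at hi
      obtain ⟨j, hj⟩ := hi
      refine h.out_ne_in 0 (i + 4 * 2 ^ m * j) ?_
      change (x ^ (4 * 2 ^ m : ℤ)) ^ j = (x ^ i)⁻¹ * y at hj
      rw [zpow_zero, one_mul, zpow_add, zpow_mul, hj, mul_inv_cancel_left]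
    · rw [← QuotientGroup.mk_pow, pow_two, h.y_mul_self]; rfl
    · rw [← QuotientGroup.mk_mul, ← QuotientGroup.mk_inv, ← QuotientGroup.mk_mul, ← QuotientGroup.mk_inv,
        h.conj, QuotientGroup.eq, ← zpow_natCast, ← zpow_neg, ← zpow_neg_one x, ← zpow_add, hmem]
      refine ⟨-1, ?_⟩
      rw [Nat.cast_sub Nat.one_le_two_pow]
      push_cast; ring
  · obtain ⟨n, hn, hc, hrest⟩ := hS
    refine Or.inr ⟨2 ^ n, ?_, (S1197.result ⟨n, hn, hc, hrest⟩ n hc).2.2.2.2⟩
    exact le_trans (le_trans (by norm_num) (Nat.pow_le_pow_right two_pos hn)) le_rfl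

/-- The automorphism group is a 2-group. -/
theorem isPGroup_mulAut (hS : Cfsg.IsQuasiDihedral S ∨ Cfsg.IsWreathed S) :
    IsPGroup 2 (MulAut S) := by
  rcases hS with hS | hS
  · exact S3116.result (isPGroup (Or.inl hS)) (Or.inr hS)
  · by_contra hA
    obtain ⟨n, hn, hc, hrest⟩ := hS
    have htop : ¬ IsPGroup 2 (MulAut (⊤ : Subgroup S)) := fun h =>
      hA (h.of_equiv (MulAut.congr Subgroup.topEquiv))
    have h := (S1202.result ⟨n, hn, hc, hrest⟩ n hc ⊤ le_top htop).1
    rw [Subgroup.relIndex_top_left] at h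
    omega

/-- An abelian group with at most one involution and exponent dividing `2 ^ k` has order at most `2 ^ k`. -/
theorem card_le_of_one_invol {A : Type u} [CommGroup A] [Finite A] (k : ℕ) (t : A)
    (hexp : ∀ a : A, a ^ 2 ^ k = 1) (h : ∀ a : A, a * a = 1 → a = 1 ∨ a = t) :
    Nat.card A ≤ 2 ^ k := by
  have key : ∀ j, Nat.card (powMonoidHom (α := A) (2 ^ j)).ker ≤ 2 ^ j := by
    intro j
    induction j with
    | zero =>
      rw [Nat.le_iff_lt_add_one]
      have : (powMonoidHom (α := A) (2 ^ 0)).ker = ⊥ := by ext a; simp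
      rw [this, Subgroup.card_bot]; norm_num
    | succ j ih =>
      let f : (powMonoidHom (α := A) (2 ^ (j + 1))).ker →* (powMonoidHom (α := A) (2 ^ j)).ker :=
        MonoidHom.mk' (fun a => ⟨(a : A) ^ 2, by
          show ((a : A) ^ 2) ^ 2 ^ j = 1
          rw [← pow_mul, ← pow_succ']; exact a.2⟩) fun a b => Subtype.ext (mul_pow (a : A) b 2)
      have hker : Nat.card f.ker ≤ 2 := by
        classical
        refine (Nat.card_le_card_of_injective (fun a : f.ker => decide (((a : _) : A) = t)) ?_).trans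
          (by simp)
        rintro ⟨⟨a, ha'⟩, ha⟩ ⟨⟨b, hb'⟩, hb⟩ hab
        have ha1 : a * a = 1 := by rw [← pow_two]; exact congrArg Subtype.val ha
        have hb1 : b * b = 1 := by rw [← pow_two]; exact congrArg Subtype.val hb
        have hab := decide_eq_decide.1 hab
        simp only at hab
        refine Subtype.ext (Subtype.ext ?_)
        by_cases hbt : b = t
        · exact (hab.2 hbt).trans hbt.symm
        · exact ((h a ha1).resolve_right fun e => hbt (hab.1 e)).trans
            ((h b hb1).resolve_right hbt).symm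
      have := f.ker.card_eq_card_quotient_mul_card_subgroup
      rw [Nat.card_congr (QuotientGroup.quotientKerEquivRange f).toEquiv] at this
      exact this.le.trans ((Nat.mul_le_mul ((Subgroup.card_le_card_group _).trans ih) hker).trans
        (pow_succ 2 j).symm.le)
  have htop : (powMonoidHom (α := A) (2 ^ k)).ker = ⊤ := by
    ext a; simpa using hexp a
  have := key k
  rwa [htop, Nat.card_congr Subgroup.topEquiv.toEquiv] at this

/-- The group is not the product of its centre and a subgroup with one involution. -/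
theorem not_mul_center (hS : Cfsg.IsQuasiDihedral S ∨ Cfsg.IsWreathed S) (Q : Subgroup S) {t : S}
    (htc : t ∈ center S) (ht : orderOf t = 2) (htQ : t ∈ Q)
    (huniq : ∀ q ∈ Q, q * q = 1 → q = 1 ∨ q = t)
    (hgen : ∀ s : S, ∃ q ∈ Q, ∃ z ∈ center S, s = q * z) : False := by
  rcases (card_center_cases hS).2 with ⟨hSD, n, -, -, hz⟩ | ⟨hW, n, hn, hc, hz⟩
  · obtain ⟨m, x, y, h⟩ := H39.exists_sdGen hSD
    have hle : center S ≤ Q := fun z hz' => by
      have : zpowers t = center S := Subgroup.eq_of_le_of_card_ge (zpowers_le.2 htc)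
        (by rw [hz, Nat.card_zpowers, ht])
      rw [← this] at hz'
      exact zpowers_le.2 htQ hz'
    obtain ⟨q, hq, z, hz', hy⟩ := hgen y
    have hyQ : y ∈ Q := hy ▸ mul_mem hq (hle hz')
    rcases huniq y hyQ h.y_mul_self with e | e
    · exact h.out_ne_in 0 0 (by rw [e]; simp)
    · have := mem_center_iff.1 (e ▸ htc) x
      have h1 := h.conj_zpow_x 1
      rw [zpow_one, one_mul, ← this, mul_inv_cancel_right] at h1
      nth_rw 1 [← zpow_one x] at h1
      rw [h.zpow_eq] at h1
      obtain ⟨c, hc'⟩ := h1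
      have hM : (0 : ℤ) < 2 ^ m := by positivity
      have : (1 : ℤ) = 2 * (2 ^ m * (2 * c + 1)) - 0 := by linarith
      omega
  · obtain ⟨m, x, y, w, h⟩ := H39.exists_wGen hW
    have hnm : n = m + 2 := by
      have := hc.symm.trans h.card
      have := Nat.pow_right_injective (le_refl 2) this
      omega
    subst hnm
    letI : CommGroup h.base := { (inferInstance : Group h.base) with
      mul_comm := by
        rintro ⟨_, a, b, rfl⟩ ⟨_, c, d, rfl⟩
        refine Subtype.ext ?_
        show x ^ a * y ^ b * (x ^ c * y ^ d) = x ^ c * y ^ d * (x ^ a * y ^ b)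
        rw [h.mul_in, h.mul_in, add_comm a, add_comm b] }
    let A : Subgroup h.base := Q.subgroupOf h.base
    letI : CommGroup A := { (inferInstance : Group A) with
      mul_comm := fun a b => Subtype.ext (mul_comm (a : h.base) b) }
    have hexp : ∀ a : A, a ^ 2 ^ (m + 2) = 1 := by
      rintro ⟨⟨_, a, b, rfl⟩, -⟩
      refine Subtype.ext (Subtype.ext ?_)
      show (x ^ a * y ^ b) ^ 2 ^ (m + 2) = 1
      rw [(h.comm.zpow_zpow a b : Commute (x ^ a) (y ^ b)).mul_pow, ← zpow_natCast, ← zpow_natCast,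
        ← zpow_mul, ← zpow_mul, h.pq_eq_one]
      constructor <;> exact Dvd.intro_left _ (by push_cast; ring)
    obtain ⟨htB⟩ : Nonempty (t ∈ h.base) := ⟨by
      rcases h.cases_elem t with ⟨a, b, e⟩ | ⟨a, b, e⟩
      · exact ⟨a, b, e⟩
      · exfalso
        have hcx := mem_center_iff.1 (e ▸ htc) (x ^ (1 : ℤ) * y ^ (0 : ℤ))
        have := h.conj_in_by_out a b 1 0
        rw [← hcx, mul_inv_cancel_right, h.pq_eq] at this
        obtain ⟨c, hc'⟩ := this.1
        have hM : (0 : ℤ) < 2 ^ m := by positivity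
        have : (1 : ℤ) = 2 * (2 * 2 ^ m * c) := by linarith
        omega⟩
    have hA : Nat.card A ≤ 2 ^ (m + 2) :=
      card_le_of_one_invol (m + 2) ⟨⟨t, htB⟩, htQ⟩ hexp fun a ha => by
        rcases huniq _ a.2 (congrArg (fun z : A => ((z : h.base) : S)) ha) with e | e
        · exact Or.inl (Subtype.ext (Subtype.ext e))
        · exact Or.inr (Subtype.ext (Subtype.ext e))
    have hQ : Nat.card Q ≤ 2 * Nat.card A := by
      haveI : h.base.Normal := Subgroup.normal_of_index_eq_two h.index_base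
      have h1 : h.base.relIndex Q ≤ 2 :=
        Nat.le_of_dvd (by norm_num) (h.index_base ▸ Subgroup.relIndex_dvd_index_of_normal h.base Q)
      have h2 := Subgroup.card_mul_index (h.base.subgroupOf Q)
      rw [← h2, mul_comm]
      refine Nat.mul_le_mul h1 (le_of_eq (Nat.card_congr ?_))
      exact ⟨fun a => ⟨⟨a.1.1, a.2⟩, a.1.2⟩, fun a => ⟨⟨a.1.1, a.2⟩, a.1.2⟩, fun _ => rfl, fun _ => rfl⟩
    have hcardS : Nat.card S * 2 ≤ Nat.card Q * Nat.card (center S) := by
      let f : Q × center S → S := fun p => p.1 * p.2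
      have hsurj : Function.Surjective f := fun s => by
        obtain ⟨q, hq, z, hz', rfl⟩ := hgen s; exact ⟨(⟨q, hq⟩, ⟨z, hz'⟩), rfl⟩
      have hfib : ∀ s, 2 ≤ Nat.card {p // f p = s} := fun s => by
        obtain ⟨⟨q, z⟩, hp⟩ := hsurj s
        have ht2 : t * t = 1 := by rw [← pow_two, ← ht, pow_orderOf_eq_one]
        refine (le_of_eq (by simp)).trans (Nat.card_le_card_of_injective
          (fun b : Bool => if b then (⟨(q, z), hp⟩ : {p // f p = s}) else
            ⟨(q * ⟨t, htQ⟩, ⟨t, htc⟩ * z), by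
              show (q : S) * t * (t * (z : S)) = s
              rw [mul_assoc, ← mul_assoc t, ht2, one_mul]; exact hp⟩) ?_)
        intro b b' hb
        have hne : q ≠ q * ⟨t, htQ⟩ := fun e => by
          have := congrArg Subtype.val (left_eq_mul.1 e)
          simp only [Subgroup.coe_one] at this
          rw [this, orderOf_one] at ht; exact absurd ht (by norm_num)
        cases b <;> cases b' <;> simp_all
      haveI := Fintype.ofFinite S
      rw [← Nat.card_prod, ← Nat.card_congr (Equiv.sigmaFiberEquiv f), Nat.card_sigma,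
        mul_comm]
      calc 2 * Nat.card S = ∑ _s : S, 2 := by simp [Nat.card_eq_fintype_card, mul_comm]
        _ ≤ _ := Finset.sum_le_sum fun s _ => hfib s
    rw [hz, hc] at hcardS
    have hbound : 2 ^ (2 * (m + 2) + 1) * 2 ≤ 2 * 2 ^ (m + 2) * 2 ^ (m + 2) :=
      hcardS.trans (Nat.mul_le_mul (hQ.trans (Nat.mul_le_mul_left 2 hA)) le_rfl)
    have e1 : 2 ^ (2 * (m + 2) + 1) * 2 = 4 * (2 ^ (m + 2) * 2 ^ (m + 2)) := by ring
    have : 0 < 2 ^ (m + 2) * 2 ^ (m + 2) := by positivity
    nlinarith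

end Cfsg.Agent.H57.Order.TwoGroup
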